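import Mathlib

/-!
# Commuting pairs and centralizers of elements of order 3 (helper343)

* `Has d G` : the order of the centralizer of some element of order `3` of `G` is divisible by `d`;
* `CommPair A B G` : injective homomorphisms `f : A →* G`, `g : B →* G` with commuting images.
-/

set_option autoImplicit false

namespace Cfsg.Agent.H343

/-- `d` divides the order of the centralizer of some element of order 3 -/
def Has (d : ℕ) (G : Type*) [Group G] : Prop :=
  ∃ y : G, orderOf y = 3 ∧ d ∣ Nat.card (Subgroup.centralizer ({y} : Set G))

theorem Has.of_dvd {d e : ℕ} {G : Type*} [Group G] (h : Has d G) (hd : e ∣ d) : Has e G := by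
  obtain ⟨y, hy, h⟩ := h
  exact ⟨y, hy, hd.trans h⟩

/-- centralizers under an isomorphism -/
theorem card_centralizer_equiv {G H : Type*} [Group G] [Group H] (e : G ≃* H) (y : G) :
    Nat.card (Subgroup.centralizer ({e y} : Set H)) = Nat.card (Subgroup.centralizer ({y} : Set G)) := by
  refine (Nat.card_congr ?_).symm
  refine
    { toFun := fun c => ⟨e c.1, ?_⟩
      invFun := fun c => ⟨e.symm c.1, ?_⟩
      left_inv := fun c => by simp
      right_inv := fun c => by simp }
  · rw [Subgroup.mem_centralizer_singleton_iff]
    have := Subgroup.mem_centralizer_singleton_iff.mp c.2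
    rw [← map_mul, this, map_mul]
  · rw [Subgroup.mem_centralizer_singleton_iff]
    have := Subgroup.mem_centralizer_singleton_iff.mp c.2
    apply e.injective
    rw [map_mul, map_mul, e.apply_symm_apply, this]

theorem Has.equiv {d : ℕ} {G H : Type*} [Group G] [Group H] (e : G ≃* H) (h : Has d H) : Has d G := by
  obtain ⟨y, hy, h⟩ := h
  refine ⟨e.symm y, ?_, ?_⟩
  · rw [MulEquiv.orderOf_eq, hy]
  · rwa [card_centralizer_equiv e.symm y]

/-- the centralizer of `f a` is divisible by the order of a commuting subgroup -/
theorem card_dvd_centralizer {B G : Type*} [Group B] [Group G] [Finite G] (g : B →* G)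
    (hg : Function.Injective g) (y : G) (h : ∀ b, y * g b = g b * y) :
    Nat.card B ∣ Nat.card (Subgroup.centralizer ({y} : Set G)) := by
  have h1 : g.range ≤ Subgroup.centralizer ({y} : Set G) := by
    rintro _ ⟨b, rfl⟩
    rw [Subgroup.mem_centralizer_singleton_iff]
    exact (h b).symm
  have h2 := Subgroup.card_dvd_of_le h1
  rwa [← Nat.card_congr (MonoidHom.ofInjective hg).toEquiv] at h2

/-- commuting injective homomorphisms -/
structure CommPair (A B G : Type*) [Group A] [Group B] [Group G] where
  /-- first map -/
  f : A →* G
  /-- second map -/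
  g : B →* G
  hf : Function.Injective f
  hg : Function.Injective g
  comm : ∀ a b, f a * g b = g b * f a

namespace CommPair

variable {A B G A' B' G' : Type*} [Group A] [Group B] [Group G] [Group A'] [Group B'] [Group G']

theorem has [Finite G] (P : CommPair A B G) {a : A} (ha : orderOf a = 3) : Has (Nat.card B) G :=
  ⟨P.f a, by rw [orderOf_injective P.f P.hf, ha], card_dvd_centralizer P.g P.hg _ (P.comm a)⟩

/-- transport -/
def map (P : CommPair A B G) (j : G →* G') (hf : ∀ a, j (P.f a) = 1 → a = 1) (hg : ∀ b, j (P.g b) = 1 → b = 1) :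
    CommPair A B G' where
  f := j.comp P.f
  g := j.comp P.g
  hf := (injective_iff_map_eq_one _).mpr hf
  hg := (injective_iff_map_eq_one _).mpr hg
  comm a b := by
    rw [MonoidHom.comp_apply, MonoidHom.comp_apply, ← map_mul, ← map_mul, P.comm]

/-- precomposition -/
def comp (P : CommPair A B G) (i : A' →* A) (j : B' →* B) (hi : Function.Injective i)
    (hj : Function.Injective j) : CommPair A' B' G where
  f := P.f.comp i
  g := P.g.comp j
  hf := P.hf.comp hi
  hg := P.hg.comp hj
  comm a b := P.comm _ _

/-- the other order -/
def swap (P : CommPair A B G) : CommPair B A G where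
  f := P.g
  g := P.f
  hf := P.hg
  hg := P.hf
  comm a b := (P.comm b a).symm

/-- modulo the center -/
def modCenter (P : CommPair A B G) (hf : ∀ a, P.f a ∈ Subgroup.center G → a = 1)
    (hg : ∀ b, P.g b ∈ Subgroup.center G → b = 1) : CommPair A B (G ⧸ Subgroup.center G) :=
  P.map (QuotientGroup.mk' (Subgroup.center G))
    (fun a h => hf a ((QuotientGroup.eq_one_iff _).mp h))
    (fun b h => hg b ((QuotientGroup.eq_one_iff _).mp h))

end CommPair

end Cfsg.Agent.H343
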