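import Cfsg.Agent.H343.Has
import Cfsg.Agent.Phan.Ext
import Cfsg.Agent.S0243
import Cfsg.Agent.ClassicalGeometry.PSUAutBasic
import Cfsg.Agent.S0280

/-!
# Commuting blocks in `PSL_n(q)` and `PSU_n(q)` (helper343)
-/

set_option autoImplicit false

namespace Cfsg.Agent.H343

open Matrix Cfsg Cfsg.Agent.Phan

section SL

variable {F : Type*} [Field F] {m n k l : ℕ}

/-- the block embedding of `SL m` in `SL n` along an injection of the indices -/
def slExt (e : Fin m → Fin n) (he : Function.Injective e) :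
    SpecialLinearGroup (Fin m) F →* SpecialLinearGroup (Fin n) F where
  toFun A := ⟨extM e A.1, by rw [extM_det he, A.2]⟩
  map_one' := Subtype.ext (extM_one e)
  map_mul' A B := Subtype.ext (extM_mul he _ _)

theorem slExt_val (e : Fin m → Fin n) (he : Function.Injective e) (A : SpecialLinearGroup (Fin m) F) :
    (slExt e he A).1 = extM e A.1 := rfl

theorem extM_apply_apply {e : Fin m → Fin n} (he : Function.Injective e) (A : Matrix (Fin m) (Fin m) F)
    (i j : Fin m) : extM e A (e i) (e j) = A i j := by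
  have h := extM_mulVec he A (Pi.single (e j) 1) i
  rw [Matrix.mulVec_single_one] at h
  have h2 : (Pi.single (e j) (1 : F) : Fin n → F) ∘ e = Pi.single j 1 := by
    funext t
    simp [Pi.single_apply, he.eq_iff]
  rw [h2, Matrix.mulVec_single_one] at h
  simpa [Matrix.col_apply] using h

theorem extM_apply_of_notMem {e : Fin m → Fin n} {x : Fin n} (h : ∀ i, x ≠ e i)
    (A : Matrix (Fin m) (Fin m) F) (y : Fin n) : extM e A x y = (1 : Matrix (Fin n) (Fin n) F) x y := by
  have h1 := extM_mulVec_of_notMem h A (Pi.single y 1)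
  rw [Matrix.mulVec_single_one] at h1
  simpa [Matrix.col_apply, Matrix.one_apply, Pi.single_apply] using h1

theorem slExt_injective (e : Fin m → Fin n) (he : Function.Injective e) :
    Function.Injective (slExt (F := F) e he) := by
  intro A B h
  apply Subtype.ext
  ext i j
  rw [← extM_apply_apply he A.1 i j, ← extM_apply_apply he B.1 i j]
  exact congrFun (congrFun (congrArg Subtype.val h) _) _

/-- a block matrix which is scalar is trivial, if some index is outside -/
theorem slExt_eq_one_of_center {e : Fin m → Fin n} (he : Function.Injective e) {x : Fin n} (h : ∀ i, x ≠ e i)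
    {A : SpecialLinearGroup (Fin m) F} (hA : slExt e he A ∈ Subgroup.center (SpecialLinearGroup (Fin n) F)) :
    A = 1 := by
  rw [Matrix.SpecialLinearGroup.mem_center_iff] at hA
  obtain ⟨r, -, hr⟩ := hA
  have h1 : (slExt e he A).1 x x = r := by
    rw [← hr]; simp
  rw [slExt_val, extM_apply_of_notMem h, Matrix.one_apply_eq] at h1
  apply slExt_injective e he
  rw [map_one]
  apply Subtype.ext
  rw [← hr, ← h1]
  simp

theorem castAdd_ne_natAdd {k l : ℕ} (i : Fin k) (j : Fin l) : Fin.castAdd l i ≠ Fin.natAdd k j := by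
  intro h
  have := congrArg Fin.val h
  simp at this
  omega

/-- the two blocks of `PSL_{k+l}` -/
noncomputable def pslPair (F : Type*) [Field F] {k l : ℕ} (hk : 1 ≤ k) (hl : 1 ≤ l) :
    CommPair (SpecialLinearGroup (Fin k) F) (SpecialLinearGroup (Fin l) F)
      (ProjectiveSpecialLinearGroup (Fin (k + l)) F) :=
  CommPair.modCenter
    { f := slExt (Fin.castAdd l) (Fin.castAdd_injective k l)
      g := slExt (Fin.natAdd k) (Fin.natAdd_injective l k)
      hf := slExt_injective _ _
      hg := slExt_injective _ _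
      comm := fun a b => Subtype.ext (extM_comm castAdd_ne_natAdd a.1 b.1) }
    (fun _ h => slExt_eq_one_of_center (x := Fin.natAdd k ⟨0, hl⟩) (Fin.castAdd_injective k l)
      (fun i => (castAdd_ne_natAdd i _).symm) h)
    (fun _ h => slExt_eq_one_of_center (x := Fin.castAdd l ⟨0, hk⟩) (Fin.natAdd_injective l k)
      (fun i => castAdd_ne_natAdd _ i) h)

theorem exists_orderOf_three {G : Type*} [Group G] [Finite G] (h : 3 ∣ Nat.card G) : ∃ a : G, orderOf a = 3 := by
  haveI : Fact (Nat.Prime 3) := ⟨Nat.prime_three⟩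
  exact exists_prime_orderOf_dvd_card' 3 h

theorem card_SL_two [Fintype F] {q : ℕ} (hF : Fintype.card F = q) :
    Nat.card (SpecialLinearGroup (Fin 2) F) = q * (q ^ 2 - 1) := by
  have h := Cfsg.Agent.S0242.result hF 2 (by norm_num)
  have hq : 1 < q := hF ▸ Fintype.one_lt_card
  rw [Fin.prod_univ_two] at h
  simp only [Fin.val_zero, Fin.val_one, pow_zero, pow_one] at h
  obtain ⟨c, rfl⟩ : ∃ c, q = c + 2 := ⟨q - 2, by omega⟩
  have h1 : (c + 2) ^ 2 - 1 = (c + 1) * (c + 3) := by
    rw [show (c + 2) ^ 2 = (c + 1) * (c + 3) + 1 by ring]; simp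
  have h2 : (c + 2) ^ 2 - (c + 2) = (c + 2) * (c + 1) := by
    rw [show (c + 2) ^ 2 = (c + 2) * (c + 1) + (c + 2) by ring]; simp
  have h3 : c + 2 - 1 = c + 1 := by omega
  rw [h1, h2, h3] at h
  rw [h1]
  apply Nat.eq_of_mul_eq_mul_left (show 0 < c + 1 by omega)
  rw [h]; ring

theorem three_dvd_mul_sq_sub_one {q : ℕ} (hq : 1 ≤ q) : 3 ∣ q * (q ^ 2 - 1) := by
  have h1 : q * (q ^ 2 - 1) = (q - 1) * q * (q + 1) := by
    obtain ⟨c, rfl⟩ : ∃ c, q = c + 1 := ⟨q - 1, by omega⟩
    have h1 : (c + 1) ^ 2 - 1 = c * (c + 2) := by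
      rw [show (c + 1) ^ 2 = c * (c + 2) + 1 by ring]; simp
    rw [h1]; simp; ring
  rw [h1]
  have : q % 3 = 0 ∨ q % 3 = 1 ∨ q % 3 = 2 := by omega
  rcases this with h | h | h
  · exact ((Nat.dvd_of_mod_eq_zero h).mul_left _).mul_right _
  · exact (Nat.dvd_of_mod_eq_zero (show (q - 1) % 3 = 0 by omega)).mul_right _ |>.mul_right _
  · exact (Nat.dvd_of_mod_eq_zero (show (q + 1) % 3 = 0 by omega)).mul_left _

theorem exists_sl2_three (F : Type*) [Field F] [Fintype F] : ∃ a : SpecialLinearGroup (Fin 2) F, orderOf a = 3 := by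
  apply exists_orderOf_three
  rw [card_SL_two rfl]
  exact three_dvd_mul_sq_sub_one Fintype.card_pos

/-- `PSL_n(q)`, `n ≥ 3` -/
theorem has_psl (F : Type*) [Field F] [Fintype F] {n : ℕ} (hn : 3 ≤ n) :
    Has (Nat.card (SpecialLinearGroup (Fin (n - 2)) F)) (ProjectiveSpecialLinearGroup (Fin n) F) := by
  obtain ⟨k, rfl⟩ : ∃ k, n = 2 + k := ⟨n - 2, by omega⟩
  obtain ⟨a, ha⟩ := exists_sl2_three F
  have := (pslPair F (k := 2) (l := k) (by norm_num) (by omega)).has ha
  rwa [Nat.add_sub_cancel_left]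

end SL

section SU

variable {F : Type*} [Field F] [Fintype F] {q m n k l : ℕ}

/-- a block matrix of `SU` which is central is trivial, if some index is outside -/
theorem suExt_eq_one_of_center (hF : Fintype.card F = q ^ 2) (hn : 3 ≤ n) {e : Fin m → Fin n}
    (he : Function.Injective e) {x : Fin n} (h : ∀ i, x ≠ e i) {A : SU m F q}
    (hA : ext hF e he A ∈ Subgroup.center (SU n F q)) : A = 1 := by
  obtain ⟨c, -, -, hc⟩ := ClassicalGeometry.PSUAutBasic.exists_scalar_of_mem_center hF hn hA
  have h1 : ∀ v, mat (ext hF e he A) *ᵥ v = c • v := hc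
  have h2 := congrFun (h1 (Pi.single x 1)) x
  rw [mat_ext, extM_mulVec_of_notMem h] at h2
  have h3 : c = 1 := by simpa using h2.symm
  apply ext_injective hF he
  rw [map_one]
  apply mat_inj
  rw [mat_one]
  apply Matrix.ext_of_mulVec_single
  intro i
  rw [h1, h3, one_smul, Matrix.one_mulVec]

/-- the two blocks of `PSU_{k+l}` -/
noncomputable def psuPair (hF : Fintype.card F = q ^ 2) {k l : ℕ} (hk : 1 ≤ k) (hl : 1 ≤ l) (hkl : 3 ≤ k + l) :
    CommPair (SU k F q) (SU l F q) (PSU (k + l) F q) :=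
  CommPair.modCenter
    { f := ext hF (Fin.castAdd l) (Fin.castAdd_injective k l)
      g := ext hF (Fin.natAdd k) (Fin.natAdd_injective l k)
      hf := ext_injective hF _
      hg := ext_injective hF _
      comm := fun a b => ext_comm hF _ _ castAdd_ne_natAdd a b }
    (fun _ h => suExt_eq_one_of_center hF hkl (x := Fin.natAdd k ⟨0, hl⟩) (Fin.castAdd_injective k l)
      (fun i => (castAdd_ne_natAdd i _).symm) h)
    (fun _ h => suExt_eq_one_of_center hF hkl (x := Fin.castAdd l ⟨0, hk⟩) (Fin.natAdd_injective l k)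
      (fun i => castAdd_ne_natAdd _ i) h)

theorem exists_su2_three (hF : Fintype.card F = q ^ 2) : ∃ a : SU 2 F q, orderOf a = 3 := by
  apply exists_orderOf_three
  have h := Cfsg.Agent.S0278.result hF 2 (by norm_num)
  have hq : 0 < q := by
    rcases Nat.eq_zero_or_pos q with h0 | h0
    · subst h0
      have := Fintype.one_lt_card (α := F)
      simp [hF] at this
    · exact h0
  simp [Finset.prod_range_succ] at h
  have h1 : Nat.card (SU 2 F q) = q * (q ^ 2 - 1) := by
    apply Nat.eq_of_mul_eq_mul_left (show 0 < q + 1 by omega)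
    rw [h]; ring
  rw [h1]
  exact three_dvd_mul_sq_sub_one hq

/-- `PSU_n(q)`, `n ≥ 3` -/
theorem has_psu (hF : Fintype.card F = q ^ 2) {n : ℕ} (hn : 3 ≤ n) :
    Has (Nat.card (SU (n - 2) F q)) (PSU n F q) := by
  obtain ⟨k, rfl⟩ : ∃ k, n = 2 + k := ⟨n - 2, by omega⟩
  obtain ⟨a, ha⟩ := exists_su2_three hF
  have := (psuPair hF (k := 2) (l := k) (by norm_num) (by omega) hn).has ha
  rwa [Nat.add_sub_cancel_left]

end SU

end Cfsg.Agent.H343
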