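import Cfsg.Agent.H343.Blk
import Cfsg.Agent.H343.WitLin
import Cfsg.Agent.LieClassical.OmegaReindex
import Cfsg.Agent.S0245

/-!
# Centralizers of elements of order 3 in symplectic and orthogonal groups (helper343)
-/

set_option autoImplicit false
set_option linter.unusedSectionVars false
set_option linter.unusedVariables false

namespace Cfsg.Agent.H343

open Matrix Cfsg Cfsg.Agent.LieClassical.OmegaReindex
open scoped commutatorElement

section

variable {F : Type*} [Field F]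

/-- `PSp_{2m}(q)`, `m ≥ 2` -/
theorem has_psp [Fintype F] {m : ℕ} (hm : 2 ≤ m) :
    Has (Nat.card (symplecticGroup (Fin (m - 1)) F)) (PSp m F) := by
  obtain ⟨k, rfl⟩ : ∃ k, m = 1 + k := ⟨m - 1, by omega⟩
  obtain ⟨a, ha⟩ : ∃ a : symplecticGroup (Fin 1) F, orderOf a = 3 := by
    apply exists_orderOf_three
    rw [Cfsg.Agent.S0245.result rfl]
    simpa using three_dvd_mul_sq_sub_one (q := Fintype.card F) Fintype.card_pos
  have := (Blk.pspPair F (k := 1) (l := k) (by norm_num) (by omega)).has ha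
  rwa [Nat.add_sub_cancel_left]

/-- `GL_m → O⁺_{2m}` -/
def glPlus (m : ℕ) (F : Type*) [Field F] : GeneralLinearGroup (Fin m) F →* isometryGroup F (quadFormPlus m F) where
  toFun g := ⟨⟨fromBlocks g.1 0 0 (g⁻¹).1ᵀ, fromBlocks (g⁻¹).1 0 0 g.1ᵀ, by
      rw [fromBlocks_multiply]
      simp only [Matrix.mul_zero, Matrix.zero_mul, add_zero, zero_add, ← Matrix.transpose_mul]
      rw [← Units.val_mul, mul_inv_cancel, Units.val_one, Matrix.transpose_one, fromBlocks_one], by
      rw [fromBlocks_multiply]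
      simp only [Matrix.mul_zero, Matrix.zero_mul, add_zero, zero_add, ← Matrix.transpose_mul]
      rw [← Units.val_mul, inv_mul_cancel, Units.val_one, Matrix.transpose_one, fromBlocks_one]⟩, by
      rw [Blk.mem_iso]
      intro v
      change quadFormPlus m F (fromBlocks g.1 0 0 (g⁻¹).1ᵀ *ᵥ v) = _
      have h1 : ∀ w : Fin m ⊕ Fin m → F, quadFormPlus m F w = (w ∘ Sum.inl) ⬝ᵥ (w ∘ Sum.inr) := fun w => rfl
      rw [h1, h1, Matrix.fromBlocks_mulVec]
      simp only [Matrix.zero_mulVec, add_zero, zero_add]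
      have h2 : Sum.elim (g.1 *ᵥ (v ∘ Sum.inl)) ((g⁻¹).1ᵀ *ᵥ (v ∘ Sum.inr)) ∘ Sum.inl = g.1 *ᵥ (v ∘ Sum.inl) := rfl
      have h3 : Sum.elim (g.1 *ᵥ (v ∘ Sum.inl)) ((g⁻¹).1ᵀ *ᵥ (v ∘ Sum.inr)) ∘ Sum.inr =
        (g⁻¹).1ᵀ *ᵥ (v ∘ Sum.inr) := rfl
      rw [h2, h3, Matrix.mulVec_transpose, dotProduct_comm, ← Matrix.dotProduct_mulVec, Matrix.mulVec_mulVec,
        ← Units.val_mul, inv_mul_cancel, Units.val_one, Matrix.one_mulVec, dotProduct_comm]⟩
  map_one' := by
    apply Subtype.ext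
    apply Units.ext
    change fromBlocks _ _ _ _ = (1 : Matrix _ _ F)
    rw [inv_one, Units.val_one, Matrix.transpose_one, fromBlocks_one]
  map_mul' g h := by
    apply Subtype.ext
    apply Units.ext
    change fromBlocks _ _ _ _ = fromBlocks _ _ _ _ * fromBlocks _ _ _ _
    rw [fromBlocks_multiply]
    simp only [Matrix.mul_zero, Matrix.zero_mul, add_zero, zero_add, ← Matrix.transpose_mul, _root_.mul_inv_rev,
      Units.val_mul]

theorem glPlus_injective (m : ℕ) : Function.Injective (glPlus m F) := by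
  intro g h hgh
  apply Units.ext
  have h1 : fromBlocks g.1 0 0 (g⁻¹).1ᵀ = fromBlocks h.1 0 0 (h⁻¹).1ᵀ :=
    congrArg (fun x : isometryGroup F (quadFormPlus m F) => (x.1.1 : Matrix _ _ F)) hgh
  exact (fromBlocks_inj.mp h1).1

/-- an element of order 3 of the derived group of `GL_2` -/
theorem exists_commutator_three : ∃ g : GeneralLinearGroup (Fin 2) F, g ∈ commutator (GeneralLinearGroup (Fin 2) F) ∧
    orderOf g = 3 := by
  let s : GeneralLinearGroup (Fin 2) F := ⟨!![-1, 1; 0, 1], !![-1, 1; 0, 1], by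
    rw [Matrix.mul_fin_two, Matrix.one_fin_two]; simp, by
    rw [Matrix.mul_fin_two, Matrix.one_fin_two]; simp⟩
  let t : GeneralLinearGroup (Fin 2) F := ⟨!![1, 0; 1, -1], !![1, 0; 1, -1], by
    rw [Matrix.mul_fin_two, Matrix.one_fin_two]; simp, by
    rw [Matrix.mul_fin_two, Matrix.one_fin_two]; simp⟩
  have hs : s⁻¹ = s := rfl
  have ht : t⁻¹ = t := rfl
  refine ⟨⁅s, t⁆, Subgroup.commutator_mem_commutator (Subgroup.mem_top _) (Subgroup.mem_top _), ?_⟩
  have hval : (⁅s, t⁆ : GeneralLinearGroup (Fin 2) F).1 = !![-1, 1; -1, 0] := by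
    rw [commutatorElement_def, hs, ht]
    change !![-1, 1; 0, 1] * !![1, 0; 1, -1] * !![-1, 1; 0, 1] * !![1, 0; 1, -1] = _
    rw [Matrix.mul_fin_two, Matrix.mul_fin_two, Matrix.mul_fin_two]
    congr 1
    simp
  rw [orderOf_eq_prime_iff]
  constructor
  · apply Units.ext
    rw [Units.val_pow_eq_pow_val, hval, pow_succ, pow_two, Matrix.mul_fin_two, Matrix.mul_fin_two, Units.val_one,
      Matrix.one_fin_two]
    congr 1
    simp
  · intro h
    have h1 := congrArg (fun u : GeneralLinearGroup (Fin 2) F => u.1 0 1) h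
    simp only [hval] at h1
    simp at h1

theorem exists_omega_three : ∃ g : Omega F (quadFormPlus 2 F), orderOf g = 3 := by
  obtain ⟨g, hg, h3⟩ := exists_commutator_three (F := F)
  refine ⟨⟨glPlus 2 F g, Blk.OrthSum.map_commutator_le _ hg⟩, ?_⟩
  rw [← Subgroup.orderOf_coe]
  change orderOf (glPlus 2 F g) = 3
  rw [orderOf_injective _ (glPlus_injective 2), h3]

variable [Fintype F]

theorem has_oplus {l : ℕ} (hl : 1 ≤ l) :
    Has (Nat.card (Omega F (quadFormPlus l F))) (POmega F (quadFormPlus (2 + l) F)) := by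
  obtain ⟨a, ha⟩ := exists_omega_three (F := F)
  exact ((Blk.sumPlus F 2 l).ppair (coe_quadPlus _ _) quadPlus_nondegenerate (by simp; omega)
    (quadPlus_isotropic (by omega)) (Sum.inl 0) (Sum.inl ⟨0, hl⟩)).has ha

theorem has_oodd (h2 : (2 : F) ≠ 0) {l : ℕ} :
    Has (Nat.card (Omega F (quadFormOdd l F))) (POmega F (quadFormOdd (2 + l) F)) := by
  obtain ⟨a, ha⟩ := exists_omega_three (F := F)
  exact ((Blk.sumOdd F 2 l).ppair (coe_quadOdd _ _) (quadOdd_nondegenerate h2) (by simp; omega)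
    (quadOdd_isotropic (by omega)) (Sum.inl 0) (Sum.inl ())).has ha

theorem has_ominus {a b : F} (hab : ∀ z₁ z₂ : F, z₁ ^ 2 + a * z₁ * z₂ + b * z₂ ^ 2 = 0 → z₁ = 0 ∧ z₂ = 0) {l : ℕ} :
    Has (Nat.card (Omega F (quadFormMinus l F a b))) (POmega F (quadFormMinus (2 + l) F a b)) := by
  obtain ⟨y, hy⟩ := exists_omega_three (F := F)
  exact ((Blk.sumMinus F a b 2 l).ppair (coe_quadMinus _ _ a b) (quadMinus_nondegenerate hab) (by simp; omega)
    (quadMinus_isotropic (by omega) a b) (Sum.inl 0) (Sum.inr 0)).has hy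

/-- `|PΩ|` divides `|Ω|` -/
theorem card_pomega_dvd {ι : Type} [Fintype ι] [DecidableEq ι] (Q : (ι → F) → F) :
    Nat.card (POmega F Q) ∣ Nat.card (Omega F Q) :=
  Subgroup.card_quotient_dvd_card _

end

end Cfsg.Agent.H343
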