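import Cfsg.Agent.H343.A9Elim
import Cfsg.Agent.H343.A9Alt
import Cfsg.Agent.H344.OutB
import Cfsg.Agent.H497.AltId
import Cfsg.Agent.S0822

/-!
# The elimination for S3339 (helper343)
-/

set_option autoImplicit false
set_option linter.unusedVariables false
set_option linter.unusedSectionVars false

namespace Cfsg.Agent.H343.A9

open Subgroup Cfsg OrdDiv Cfsg.Agent.H344 Cfsg.Agent.H344.List81 Cfsg.Agent.H343.Red

universe u

theorem of_eq {K : Type u} [Group K] [Finite K] {X : Type} [Group X] (h : C9 K) (e : Nonempty (K ≃* X)) : C9 X := by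
  obtain ⟨e⟩ := e
  exact h.of_injective e.symm.toMonoidHom e.symm.injective

theorem g2_not (T : OrderTable.{u}) {F : Type} [Field F] [Fintype F] (hq : ¬ 3 ∣ Fintype.card F)
    (h9 : ¬ 9 ∣ Fintype.card F ^ 2 - 1) {S : Type u} [Group S] (e : Nonempty (S ≃* ↥(Lie.chevG2.group F))) :
    ¬ 3 ^ 4 ∣ Nat.card S := by
  obtain ⟨e⟩ := e
  have hq1 := Fintype.one_lt_card (α := F)
  obtain ⟨h90, h91, h98⟩ := OutB.three_mod hq hq1 h9
  rw [Nat.card_congr e.toEquiv, T.g2]
  have h2 : V 1 (Fintype.card F ^ 2 - 1) := V_sq (by omega)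
  have h3 : V 2 (Fintype.card F ^ 6 - 1) := by
    have e6 : Fintype.card F ^ 6 - 1 = (Fintype.card F ^ 3 - 1) * (Fintype.card F ^ 3 + 1) := by
      have := Nat.sq_sub_sq (Fintype.card F ^ 3) 1
      rw [one_pow, ← pow_mul] at this
      rw [this, mul_comm]
    rw [e6]
    by_cases h31 : Fintype.card F % 3 = 1
    · exact V.mul (V_cube (by omega)) (V_odd' h31)
    · have := V.mul (V_odd (k := 3) (q := Fintype.card F) (by omega) (by decide))
        (V_cube' (q := Fintype.card F) (by omega))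
      simpa using this
  exact (((V0 hq).pow 6).mul h2 |>.mul h3).not_dvd (by norm_num)

theorem tf4_not (T : OrderTable.{u}) {F : Type} [Field F] [Fintype F] {m : ℕ} (hm : 1 ≤ m)
    (hF : Fintype.card F = 2 ^ (2 * m + 1)) (h9 : ¬ 9 ∣ 2 ^ (2 * m + 1) + 1) {S : Type u} [Group S]
    (e : Nonempty (S ≃* ↥(Lie.twistedF4 F (2 ^ m)))) : ¬ 3 ^ 4 ∣ Nat.card S := by
  obtain ⟨e⟩ := e
  rw [Nat.card_congr e.toEquiv, T.tf4 F m hm hF]
  set q := 2 ^ (2 * m + 1) with hq
  have h2 : q % 3 = 2 := by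
    rw [hq, pow_succ, pow_mul, Nat.mul_mod, Nat.pow_mod]
    norm_num
  have h25 : q % 9 = 2 ∨ q % 9 = 5 := by omega
  have a1 : V 0 (q ^ 12) := (V0 (by omega)).pow 12
  have a2 : V 0 (q - 1) := by
    have := V_odd (k := 1) h2 (by decide)
    rwa [pow_one] at this
  have a3 : V 2 (q ^ 3 + 1) := V_cube' h25
  have a4 : V 1 (q ^ 4 - 1) := V_four (by omega)
  have a5 : V 0 (q ^ 6 + 1) := V0 (by
    intro h
    have : q ^ 6 % 3 = 1 := by rw [Nat.pow_mod, h2]
    omega)
  exact ((((a1.mul a2).mul a3).mul a4).mul a5).not_dvd (by norm_num)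

theorem spor_not (T : OrderTable.{u}) {S : Type u} [Group S] {x : Grp × ℕ} (hx : x ∈ spor) (h : Real x.1 S)
    (h4 : x.2 % 81 ≠ 0) : ¬ 3 ^ 4 ∣ Nat.card S := by
  rw [T.spor S x hx h]
  intro hd
  exact h4 (Nat.mod_eq_zero_of_dvd hd)

/-- **The elimination.** -/
theorem elim (T : OrderTable.{u}) {K : Type u} [Group K] [Finite K] (h : C9 K) (hcore : CoreF K) (hk : Kind K)
    (h27 : 27 ∣ Nat.card K) (hA : 81 ∣ Nat.card (MulAut K)) : Nonempty (K ≃* ↥(alternatingGroup (Fin 9))) := by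
  cases hk with
  | alt n h9 h11 e =>
    obtain rfl | rfl | rfl : n = 9 ∨ n = 10 ∨ n = 11 := by omega
    · exact e
    · obtain ⟨e⟩ := e
      exact (kill_alt10 (hcore.congr e)).elim
    · exact (kill_alt11 (of_eq h e)).elim
  | psl2 F i1 i2 hq e =>
    refine (kill_psl2 (of_eq h e) ?_).elim
    obtain ⟨e'⟩ := e
    rwa [← Nat.card_congr e'.toEquiv]
  | psl3a F i1 i2 hq e => exact (kill_psl3a hq (of_eq h e)).elim
  | psl3b F i1 i2 hq e => exact (kill_psl3b hq (of_eq h e)).elim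
  | psl3c F i1 i2 hq e =>
    obtain ⟨e⟩ := e
    rw [OutA.card_mulAut_congr e] at hA
    exact (OutB.psl3c hq hA).elim
  | psl4a F i1 i2 hq e => exact (kill_psl4 hq (of_eq h e)).elim
  | psl45b F i1 i2 n hn hq e => exact (kill_psl_blocks (by omega) hq (of_eq h e)).elim
  | psl67 F i1 i2 n hn hq e => exact (kill_psl_six (by omega) (by omega) (of_eq h e)).elim
  | psu3a F i1 i2 q hF hq e => exact (kill_psu3a hF hq (of_eq h e)).elim
  | psu3b F i1 i2 q hF hq e => exact (kill_psu3b hF hq (of_eq h e)).elim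
  | psu3c F i1 i2 hF e =>
    obtain ⟨e⟩ := e
    rw [OutA.card_mulAut_congr e] at hA
    exact (OutB.psu3c hF hA).elim
  | psu4a F i1 i2 q hF hq e => exact (kill_psu4 hF hq (of_eq h e)).elim
  | psu45b F i1 i2 n q hn hF hq e => exact (kill_psu_blocks hF (by omega) hq (of_eq h e)).elim
  | psu67 F i1 i2 n q hn hF hq e => exact (kill_psu_six hF (by omega) (by omega) (of_eq h e)).elim
  | psp4a F i1 i2 hq e =>
    obtain ⟨E, _, _, hE⟩ := Cfsg.Agent.H356.KillPSU.exists_field (q := 4) ((isPrimePow_nat_iff 4).2 ⟨2, 2, Nat.prime_two, by norm_num, by norm_num⟩)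
    obtain ⟨e⟩ := e
    obtain ⟨e'⟩ := S0822.result (F := E) (K := F) hE hq
    exact (kill_psu4 (F := E) (q := 2) (by rw [hE]; norm_num) (by norm_num) (of_eq h ⟨e.trans e'.symm⟩)).elim
  | psp4b F i1 i2 hq e => exact (kill_psp4b hq (of_eq h e)).elim
  | psp6 F i1 i2 hq e => exact (kill_psp6 hq (of_eq h e)).elim
  | oodd F i1 i2 hq ho e => exact (kill_oodd hq ho (of_eq h e)).elim
  | ominus F i1 i2 a b hq hab e => exact (kill_ominus hq hab (of_eq h e)).elim
  | g2 F i1 i2 h3 hq h9 e => exact (OutB.g2 h3 hq h9 e (g2_not T hq h9 e) hA).elim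
  | td4 F i1 i2 q hq hF h3 e => exact (kill_td4 hq hF h3 (of_eq h e)).elim
  | tf4 F i1 i2 m hm hF h9 e => exact (OutB.tf4 hm hF h9 e (tf4_not T hm hF h9 e) hA).elim
  | tits h1 => exact (OutB.tits h1 (spor_not T (x := (.tits, 17971200)) (by decide) h1 (by norm_num)) hA).elim
  | m12 h1 => exact (OutA.of_out h1 S2061.result (by norm_num)
      (spor_not T (x := (.m12, 95040)) (by decide) h1 (by norm_num)) hA).elim
  | m24 h1 => exact (OutA.of_out h1 S2064.result (by norm_num)
      (spor_not T (x := (.m24, 244823040)) (by decide) h1 (by norm_num)) hA).elim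
  | j2 h1 => exact (OutA.of_out h1 S2066.result (by norm_num)
      (spor_not T (x := (.j2, 604800)) (by decide) h1 (by norm_num)) hA).elim
  | j4 h1 => exact (OutA.of_out h1 S2068.result (by norm_num)
      (spor_not T (x := (.j4, 86775571046077562880)) (by decide) h1 (by norm_num)) hA).elim
  | he h1 => exact (OutA.of_out h1 S2075.result (by norm_num)
      (spor_not T (x := (.he, 4030387200)) (by decide) h1 (by norm_num)) hA).elim
  | ru h1 => exact (OutA.of_out h1 S2077.result (by norm_num)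
      (spor_not T (x := (.ru, 145926144000)) (by decide) h1 (by norm_num)) hA).elim
  | on h1 =>
    obtain ⟨e⟩ := h1
    exact (kill_on (of_eq h ⟨e⟩)).elim

end Cfsg.Agent.H343.A9
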