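import Cfsg.Agent.H343.Red
import Cfsg.Agent.H343.Has
import Cfsg.Agent.H343.A9Conc

/-!
# The local part of S3339 (helper343)
-/

set_option autoImplicit false
set_option linter.unusedVariables false
set_option linter.unusedSectionVars false

namespace Cfsg.Agent.H343.A9

open Subgroup Cfsg Cfsg.Agent.H343.Red

universe u

variable {G : Type u} [Group G] [Finite G]

/-- transport of `LX` -/
theorem LX.congr {H H' : Type*} [Group H] [Group H'] {J' : Subgroup H'} (e : H ≃* H') (h : LX H' J') :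
    LX H (J'.comap e.toMonoidHom) := by
  have hc : ∀ B : Subgroup H, Nat.card (B.map e.toMonoidHom) = Nat.card B := fun B =>
    (Nat.card_congr (B.equivMapOfInjective _ e.injective).toEquiv).symm
  have hm : ∀ {x : H}, x ∈ J'.comap e.toMonoidHom ↔ e x ∈ J' := Iff.rfl
  have hbm : ∀ {B : Subgroup H}, B ≤ J'.comap e.toMonoidHom → B.map e.toMonoidHom ≤ J' := fun {B} hB => by
    rintro _ ⟨b, hb, rfl⟩
    exact hB hb
  refine ⟨?_, ?_, ?_, ?_, ?_, ?_, ?_, ?_, ?_⟩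
  · rw [Nat.card_congr e.toEquiv]; exact h.card_dvd
  · rw [Nat.card_congr e.toEquiv]; exact h.dvd_card
  · intro g a ha
    rw [hm] at ha ⊢
    rw [map_mul, map_mul, map_inv]
    exact h.nrm _ _ ha
  · rw [← h.cardJ]
    refine Nat.card_congr
      { toFun := fun x => ⟨e x, x.2⟩
        invFun := fun x => ⟨e.symm x, by rw [hm, e.apply_symm_apply]; exact x.2⟩
        left_inv := fun x => Subtype.ext (e.symm_apply_apply _)
        right_inv := fun x => Subtype.ext (e.apply_symm_apply _) }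
  · intro a ha b hb
    apply e.injective
    rw [map_mul, map_mul]
    exact h.comm _ ha _ hb
  · intro a ha
    apply e.injective
    rw [map_pow, map_one]
    exact h.exp _ ha
  · intro g B hB h9 hcom
    rw [hm]
    refine h.refl (e g) (B.map e.toMonoidHom) (hbm hB) (by rw [hc, h9]) ?_
    rintro _ ⟨b, hb, rfl⟩
    change e g * e b = e b * e g
    rw [← map_mul, hcom b hb, map_mul]
  · intro g hg
    refine h.inv (e g) fun a ha => ?_
    obtain ⟨b, rfl⟩ := e.surjective a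
    rw [← map_mul, ← map_inv, ← map_mul, hg b ha, map_inv]
  · intro B hB hinv
    rcases h.irr (B.map e.toMonoidHom) (hbm hB) (by
      rintro g _ ⟨b, hb, rfl⟩
      obtain ⟨k, rfl⟩ := e.surjective g
      exact ⟨k * b * k⁻¹, hinv k b hb, by simp⟩) with h1 | h1
    · left
      exact (Subgroup.map_eq_bot_iff_of_injective _ e.injective).mp h1
    · right
      apply le_antisymm hB
      intro x hx
      have hx' : e x ∈ B.map e.toMonoidHom := by rw [h1]; exact hx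
      obtain ⟨b, hb, hbx⟩ := hx'
      have : b = x := e.injective hbx
      rwa [← this]

/-- a subgroup of prime power order has subgroups of smaller orders -/
theorem exists_sub {A : Subgroup G} {n k : ℕ} (hA : Nat.card A = 3 ^ n) (hk : k ≤ n) :
    ∃ B ≤ A, Nat.card B = 3 ^ k := by
  have : Fact (Nat.Prime 3) := ⟨Nat.prime_three⟩
  obtain ⟨B, hB⟩ := Sylow.exists_subgroup_card_pow_prime (G := A) 3 (n := k) (by rw [hA]; exact pow_dvd_pow 3 hk)
  refine ⟨B.map A.subtype, map_subtype_le B, ?_⟩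
  rw [← hB]
  exact (Nat.card_congr (B.equivMapOfInjective _ A.subtype_injective).toEquiv).symm

/-- the only abelian subgroup of order at least 27 -/
theorem LX.eq_J {J : Subgroup G} (h : LX G J) {A : Subgroup G} (hA : ∀ a ∈ A, ∀ b ∈ A, a * b = b * a) {n : ℕ}
    (hn : Nat.card A = 3 ^ n) (h3 : 3 ≤ n) : A = J := by
  have hJ := h.cardJ
  have h1 := card_sup (A := J) (B := A) (fun b _ a ha => h.nrm b a ha)
  rw [hJ, hn] at h1
  have h2 : ∃ k, Nat.card ↥(J ⊓ A) = 3 ^ k := by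
    have h3 : Nat.card ↥(J ⊓ A) ∣ 3 ^ 3 := by
      have := Subgroup.card_dvd_of_le (inf_le_left : J ⊓ A ≤ J)
      rw [hJ] at this
      exact this
    obtain ⟨k, -, hk⟩ := (Nat.dvd_prime_pow Nat.prime_three).mp h3
    exact ⟨k, hk⟩
  obtain ⟨k, hk⟩ := h2
  have h3' : ∃ m, Nat.card ↥(J ⊔ A) = 3 ^ m := by
    have : Nat.card ↥(J ⊔ A) ∣ 3 ^ (3 + n) := by
      rw [pow_add, show (3 : ℕ) ^ 3 = 27 by norm_num, ← h1]
      exact dvd_mul_right _ _
    obtain ⟨m, -, hm⟩ := (Nat.dvd_prime_pow Nat.prime_three).mp this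
    exact ⟨m, hm⟩
  obtain ⟨m, hm⟩ := h3'
  have hm4 : m ≤ 4 := by
    by_contra hcon
    have h5 : 3 ^ 5 ∣ 1296 := by
      refine Dvd.dvd.trans ?_ h.card_dvd
      refine Dvd.dvd.trans ?_ (Subgroup.card_subgroup_dvd_card (J ⊔ A))
      rw [hm]
      exact pow_dvd_pow 3 (by omega)
    norm_num at h5
  rw [hk, hm, show (27 : ℕ) = 3 ^ 3 by norm_num, ← pow_add, ← pow_add] at h1
  have h6 := Nat.pow_right_injective (le_refl 2 |>.trans (by norm_num : 2 ≤ 3)) h1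
  have hk2 : 2 ≤ k := by omega
  obtain ⟨B, hB, hBc⟩ := exists_sub hk hk2
  have hle : A ≤ J := by
    intro x hx
    exact h.refl x B (hB.trans inf_le_left) (by rw [hBc]; norm_num) fun b hb => hA x hx b (hB hb).2
  apply Subgroup.eq_of_le_of_card_ge hle
  rw [hJ, hn]
  calc 27 = 3 ^ 3 := by norm_num
    _ ≤ 3 ^ n := Nat.pow_le_pow_right (by norm_num) h3

/-- the local hypotheses of S3339 -/
structure Loc (J H : Subgroup G) : Prop where
  JH : J ≤ H
  lx : LX H (J.subgroupOf H)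
  nH : ∀ g : G, (∀ a ∈ J, g * a * g⁻¹ ∈ J) → g ∈ H
  core : ∀ x ∈ H, orderOf x = 3 → pPrimeCore 3 (centralizer ({x} : Set G)) = ⊥

namespace Loc

variable {J H : Subgroup G}

theorem nrm (h : Loc J H) {g a : G} (hg : g ∈ H) (ha : a ∈ J) : g * a * g⁻¹ ∈ J :=
  h.lx.nrm ⟨g, hg⟩ ⟨a, h.JH ha⟩ ha

theorem cardJ (h : Loc J H) : Nat.card J = 27 := by
  rw [← h.lx.cardJ]
  exact (Nat.card_congr (Subgroup.subgroupOfEquivOfLe h.JH).toEquiv).symm

theorem comm (h : Loc J H) {a b : G} (ha : a ∈ J) (hb : b ∈ J) : a * b = b * a :=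
  congrArg Subtype.val (h.lx.comm ⟨a, h.JH ha⟩ ha ⟨b, h.JH hb⟩ hb)

theorem exp (h : Loc J H) {a : G} (ha : a ∈ J) : a ^ 3 = 1 :=
  congrArg Subtype.val (h.lx.exp ⟨a, h.JH ha⟩ ha)

theorem card_subgroupOf {A B : Subgroup G} (h : A ≤ B) : Nat.card (A.subgroupOf B) = Nat.card A :=
  Nat.card_congr (Subgroup.subgroupOfEquivOfLe h).toEquiv

theorem refl (h : Loc J H) {g : G} (hg : g ∈ H) {B : Subgroup G} (hB : B ≤ J) (h9 : Nat.card B = 9)
    (hc : ∀ b ∈ B, g * b = b * g) : g ∈ J :=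
  h.lx.refl ⟨g, hg⟩ (B.subgroupOf H) (fun x hx => hB hx) (by rw [card_subgroupOf (hB.trans h.JH), h9])
    fun b hb => Subtype.ext (hc b hb)

theorem inv (h : Loc J H) {g : G} (hg : g ∈ H) : ¬ ∀ a ∈ J, g * a * g⁻¹ = a⁻¹ := fun hcon =>
  h.lx.inv ⟨g, hg⟩ fun a ha => Subtype.ext (hcon a ha)

theorem irr (h : Loc J H) {B : Subgroup G} (hB : B ≤ J) (hn : ∀ g ∈ H, ∀ b ∈ B, g * b * g⁻¹ ∈ B) :
    B = ⊥ ∨ B = J := by
  rcases h.lx.irr (B.subgroupOf H) (fun x hx => hB hx) (fun g b hb => hn g g.2 b hb) with h1 | h1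
  · left
    rw [eq_bot_iff]
    intro b hb
    have h2 : (⟨b, h.JH (hB hb)⟩ : H) ∈ B.subgroupOf H := hb
    rw [h1, mem_bot] at h2
    exact congrArg Subtype.val h2
  · right
    apply le_antisymm hB
    intro a ha
    have h2 : (⟨a, h.JH ha⟩ : H) ∈ J.subgroupOf H := ha
    rw [← h1] at h2
    exact h2

theorem eq_J (h : Loc J H) {A : Subgroup G} (hAH : A ≤ H) (hA : ∀ a ∈ A, ∀ b ∈ A, a * b = b * a) {n : ℕ}
    (hn : Nat.card A = 3 ^ n) (h3 : 3 ≤ n) : A = J := by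
  have h1 := h.lx.eq_J (A := A.subgroupOf H) (fun a ha b hb => Subtype.ext (hA a ha b hb))
    (by rw [card_subgroupOf hAH, hn]) h3
  apply le_antisymm
  · intro a ha
    have h2 : (⟨a, hAH ha⟩ : H) ∈ A.subgroupOf H := ha
    rw [h1] at h2
    exact h2
  · intro a ha
    have h2 : (⟨a, h.JH ha⟩ : H) ∈ J.subgroupOf H := ha
    rw [← h1] at h2
    exact h2

theorem exists_nine (h : Loc J H) : ∃ B ≤ J, Nat.card B = 9 := by
  obtain ⟨B, hB, hc⟩ := exists_sub (A := J) (n := 3) (k := 2) (by rw [h.cardJ]; norm_num) (by norm_num)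
  exact ⟨B, hB, by rw [hc]; norm_num⟩

/-- `C(J) = J` -/
theorem cent (h : Loc J H) {g : G} (hg : ∀ a ∈ J, g * a = a * g) : g ∈ J := by
  obtain ⟨B, hB, h9⟩ := h.exists_nine
  refine h.refl (h.nH g fun a ha => ?_) hB h9 fun b hb => hg b (hB hb)
  rw [hg a ha, mul_inv_cancel_right]
  exact ha

/-- a Sylow 3-subgroup of `H` -/
theorem exists_P (h : Loc J H) : ∃ P : Subgroup G, P ≤ H ∧ Nat.card P = 3 ^ 4 ∧ J ≤ P := by
  have : Fact (Nat.Prime 3) := ⟨Nat.prime_three⟩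
  obtain ⟨Q, hQ⟩ := Sylow.exists_subgroup_card_pow_prime (G := H) 3 (n := 4)
    (by have := h.lx.dvd_card; norm_num; exact this)
  have hQc : Nat.card (Q.map H.subtype) = 3 ^ 4 := by
    rw [← hQ]
    exact (Nat.card_congr (Q.equivMapOfInjective _ H.subtype_injective).toEquiv).symm
  have hle : Q.map H.subtype ≤ H := map_subtype_le Q
  refine ⟨Q.map H.subtype, hle, hQc, ?_⟩
  set P := Q.map H.subtype
  have h1 := card_sup (A := J) (B := P) (fun b hb a ha => h.nrm (hle hb) ha)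
  rw [h.cardJ, hQc] at h1
  have h2 : ∃ m, Nat.card ↥(J ⊔ P) = 3 ^ m := by
    have : Nat.card ↥(J ⊔ P) ∣ 3 ^ 7 := by
      rw [show (3 : ℕ) ^ 7 = 27 * 3 ^ 4 by norm_num, ← h1]
      exact dvd_mul_right _ _
    obtain ⟨m, -, hm⟩ := (Nat.dvd_prime_pow Nat.prime_three).mp this
    exact ⟨m, hm⟩
  obtain ⟨m, hm⟩ := h2
  have hm4 : m ≤ 4 := by
    by_contra hcon
    have h5 : 3 ^ 5 ∣ 1296 := by
      refine Dvd.dvd.trans ?_ h.lx.card_dvd
      refine Dvd.dvd.trans ?_ (Subgroup.card_dvd_of_le (sup_le h.JH hle : J ⊔ P ≤ H))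
      rw [hm]
      exact pow_dvd_pow 3 (by omega)
    norm_num at h5
  have h6 : P = J ⊔ P := by
    apply Subgroup.eq_of_le_of_card_ge le_sup_right
    rw [hm, hQc]
    exact Nat.pow_le_pow_right (by norm_num) hm4
  rw [h6]
  exact le_sup_left

theorem not_dvd (h : Loc J H) : ¬ 3 ^ 5 ∣ Nat.card G := by
  have : Fact (Nat.Prime 3) := ⟨Nat.prime_three⟩
  intro h5
  obtain ⟨P, hPH, hP, hJP⟩ := h.exists_P
  have h1 := Sylow.prime_dvd_card_quotient_normalizer (p := 3) (n := 4) h5 hP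
  have h2 : 3 ^ 5 ∣ Nat.card (normalizer (P : Set G)) := by
    have h3 := Subgroup.card_mul_index (P.subgroupOf (normalizer (P : Set G)))
    have h4 : Nat.card (P.subgroupOf (normalizer (P : Set G))) = 3 ^ 4 := by
      rw [← hP]
      exact Nat.card_congr (Subgroup.subgroupOfEquivOfLe le_normalizer).toEquiv
    rw [← h3, h4, pow_succ]
    exact Nat.mul_dvd_mul_left _ h1
  have h6 : normalizer (P : Set G) ≤ H := by
    intro g hg
    have h7 : cj g J ≤ P := by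
      rintro _ ⟨a, ha, rfl⟩
      exact (mem_normalizer_iff.mp hg a).mp (hJP ha)
    have h8 : cj g J = J := by
      refine h.eq_J (h7.trans hPH) ?_ (n := 3) (by rw [card_cj, h.cardJ]; norm_num) le_rfl
      rintro _ ⟨a, ha, rfl⟩ _ ⟨b, hb, rfl⟩
      rw [← map_mul, h.comm ha hb, map_mul]
    refine h.nH g fun a ha => ?_
    rw [← h8]
    exact conj_mem_cj ha
  have h9 := h2.trans ((Subgroup.card_dvd_of_le h6).trans h.lx.card_dvd)
  norm_num at h9

theorem dvd_card (h : Loc J H) : 81 ∣ Nat.card G := h.lx.dvd_card.trans (Subgroup.card_subgroup_dvd_card H)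

/-- 3-subgroups are conjugate into `P` -/
theorem exists_conj (h : Loc J H) {P : Subgroup G} (hP : Nat.card P = 3 ^ 4) {R : Subgroup G} {n : ℕ}
    (hR : Nat.card R = 3 ^ n) : ∃ g : G, cj g R ≤ P := by
  have : Fact (Nat.Prime 3) := ⟨Nat.prime_three⟩
  have hc : Nat.card P = 3 ^ (Nat.card G).factorization 3 := by
    rw [hP]
    congr 1
    have h0 : Nat.card G ≠ 0 := Nat.card_pos.ne'
    have h1 : 3 ^ 4 ∣ Nat.card G := by have := h.dvd_card; norm_num; exact this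
    have h2 := (Nat.prime_three.pow_dvd_iff_le_factorization h0).mp h1
    have h3 : ¬ 5 ≤ (Nat.card G).factorization 3 := fun h3 =>
      h.not_dvd ((Nat.prime_three.pow_dvd_iff_le_factorization h0).mpr h3)
    omega
  let S : Sylow 3 G := Sylow.ofCard P hc
  obtain ⟨Q, hQ⟩ := IsPGroup.exists_le_sylow (p := 3) (P := R) (IsPGroup.of_card hR)
  obtain ⟨g, hg⟩ := MulAction.exists_smul_eq G Q S
  refine ⟨g, ?_⟩
  have h1 : cj g R ≤ ((g • Q : Sylow 3 G) : Subgroup G) := by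
    rw [Sylow.coe_subgroup_smul]
    rintro _ ⟨y, hy, rfl⟩
    exact ⟨y, hQ hy, rfl⟩
  rw [hg] at h1
  exact h1

/-- abelian subgroups of order divisible by 27 are conjugates of `J` -/
theorem ab (h : Loc J H) {A : Subgroup G} (hA : ∀ a ∈ A, ∀ b ∈ A, a * b = b * a) (h27 : 27 ∣ Nat.card A) :
    ∃ g : G, cj g A = J := by
  have : Fact (Nat.Prime 3) := ⟨Nat.prime_three⟩
  obtain ⟨P, hPH, hP, hJP⟩ := h.exists_P
  obtain ⟨B, hB⟩ := Sylow.exists_subgroup_card_pow_prime (G := A) 3 (n := 3) (by norm_num; exact h27)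
  have hBc : Nat.card (B.map A.subtype) = 3 ^ 3 := by
    rw [← hB]
    exact (Nat.card_congr (B.equivMapOfInjective _ A.subtype_injective).toEquiv).symm
  have hBA : B.map A.subtype ≤ A := map_subtype_le B
  obtain ⟨g, hg⟩ := h.exists_conj hP hBc
  have h1 : cj g (B.map A.subtype) = J := by
    refine h.eq_J (hg.trans hPH) ?_ (n := 3) (by rw [card_cj, hBc]) le_rfl
    rintro _ ⟨a, ha, rfl⟩ _ ⟨b, hb, rfl⟩
    rw [← map_mul, hA a (hBA ha) b (hBA hb), map_mul]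
  refine ⟨g, le_antisymm ?_ (by rw [← h1]; exact cj_le_cj hBA)⟩
  rintro _ ⟨a, ha, rfl⟩
  apply h.cent
  intro j hj
  rw [← h1] at hj
  obtain ⟨b, hb, rfl⟩ := hj
  rw [← map_mul, hA a ha b (hBA hb), map_mul]

end Loc

/-- the properties used for the elimination -/
structure C9 (Γ : Type*) [Group Γ] : Prop where
  ab : ∀ A : Subgroup Γ, (∀ a ∈ A, ∀ b ∈ A, a * b = b * a) → 27 ∣ Nat.card A →
    Nat.card A = 27 ∧ ∀ a ∈ A, a ^ 3 = 1
  inv : ∀ A : Subgroup Γ, (∀ a ∈ A, ∀ b ∈ A, a * b = b * a) → Nat.card A = 27 →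
    ∀ g : Γ, ¬ ∀ a ∈ A, g * a * g⁻¹ = a⁻¹
  refl : ∀ A : Subgroup Γ, (∀ a ∈ A, ∀ b ∈ A, a * b = b * a) → Nat.card A = 27 →
    ∀ g : Γ, (∀ a ∈ A, g * a * g⁻¹ ∈ A) → ∀ B : Subgroup Γ, B ≤ A → Nat.card B = 9 → (∀ b ∈ B, g * b = b * g) →
    g ∈ A
  nrm : ∀ A : Subgroup Γ, (∀ a ∈ A, ∀ b ∈ A, a * b = b * a) → Nat.card A = 27 →
    ∀ g : Γ, (∀ a ∈ A, g * a * g⁻¹ ∈ A) → orderOf g ≠ 13

theorem Loc.c9 {J H : Subgroup G} (h : Loc J H) : C9 G := by
  have key : ∀ A : Subgroup G, (∀ a ∈ A, ∀ b ∈ A, a * b = b * a) → 27 ∣ Nat.card A →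
      ∃ g : G, ∀ a, a ∈ A ↔ g * a * g⁻¹ ∈ J := by
    intro A hA h27
    obtain ⟨g, hg⟩ := h.ab hA h27
    refine ⟨g, fun a => ?_⟩
    rw [← hg, mem_cj]
    have : g⁻¹ * (g * a * g⁻¹) * g = a := by group
    rw [this]
  have nH : ∀ (A : Subgroup G) (x : G), (∀ a, a ∈ A ↔ x * a * x⁻¹ ∈ J) → ∀ g : G, (∀ a ∈ A, g * a * g⁻¹ ∈ A) →
      x * g * x⁻¹ ∈ H := by
    intro A x hx g hg
    refine h.nH _ fun a ha => ?_
    have h1 : x⁻¹ * a * x ∈ A := by
      rw [hx]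
      have : x * (x⁻¹ * a * x) * x⁻¹ = a := by group
      rwa [this]
    have h2 := (hx _).mp (hg _ h1)
    have : x * (g * (x⁻¹ * a * x) * g⁻¹) * x⁻¹ = x * g * x⁻¹ * a * (x * g * x⁻¹)⁻¹ := by group
    rwa [this] at h2
  refine ⟨?_, ?_, ?_, ?_⟩
  · intro A hA h27
    obtain ⟨g, hg⟩ := h.ab hA h27
    have h1 : Nat.card A = 27 := by rw [← card_cj g, hg, h.cardJ]
    refine ⟨h1, fun a ha => ?_⟩
    have h2 : g * a * g⁻¹ ∈ J := by rw [← hg]; exact conj_mem_cj ha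
    have h3 := h.exp h2
    rw [conj_pow] at h3
    have : g * a ^ 3 * g⁻¹ = g * 1 * g⁻¹ := by rw [h3]; group
    exact mul_left_cancel (mul_right_cancel this)
  · intro A hA hc g hg
    obtain ⟨x, hx⟩ := key A hA (by rw [hc])
    have h1 := nH A x hx g fun a ha => by rw [hg a ha]; exact A.inv_mem ha
    refine h.inv h1 fun a ha => ?_
    have h2 : x⁻¹ * a * x ∈ A := by
      rw [hx]
      have : x * (x⁻¹ * a * x) * x⁻¹ = a := by group
      rwa [this]
    have h3 := hg _ h2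
    calc x * g * x⁻¹ * a * (x * g * x⁻¹)⁻¹ = x * (g * (x⁻¹ * a * x) * g⁻¹) * x⁻¹ := by group
      _ = x * (x⁻¹ * a * x)⁻¹ * x⁻¹ := by rw [h3]
      _ = a⁻¹ := by group
  · intro A hA hc g hg B hBA h9 hcom
    obtain ⟨x, hx⟩ := key A hA (by rw [hc])
    have h1 := nH A x hx g hg
    rw [hx]
    refine h.refl h1 (B := cj x B) ?_ (by rw [card_cj, h9]) ?_
    · rintro _ ⟨b, hb, rfl⟩
      exact (hx b).mp (hBA hb)
    · rintro _ ⟨b, hb, rfl⟩
      change x * g * x⁻¹ * (x * b * x⁻¹) = x * b * x⁻¹ * (x * g * x⁻¹)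
      calc x * g * x⁻¹ * (x * b * x⁻¹) = x * (g * b) * x⁻¹ := by group
        _ = x * (b * g) * x⁻¹ := by rw [hcom b hb]
        _ = _ := by group
  · intro A hA hc g hg ho
    obtain ⟨x, hx⟩ := key A hA (by rw [hc])
    have h1 := nH A x hx g hg
    have h2 : orderOf (x * g * x⁻¹) = 13 := by rw [← MulAut.conj_apply, MulEquiv.orderOf_eq, ho]
    have h3 : orderOf (⟨x * g * x⁻¹, h1⟩ : H) = 13 := by rw [Subgroup.orderOf_mk, h2]
    have h4 : orderOf (⟨x * g * x⁻¹, h1⟩ : H) ∣ Nat.card H := orderOf_dvd_natCard _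
    rw [h3] at h4
    have h5 := h4.trans h.lx.card_dvd
    norm_num at h5

theorem C9.of_injective {Γ Λ : Type*} [Group Γ] [Group Λ] [Finite Γ] (h : C9 Γ) (f : Λ →* Γ)
    (hf : Function.Injective f) : C9 Λ := by
  have hc : ∀ B : Subgroup Λ, Nat.card (B.map f) = Nat.card B := fun B =>
    (Nat.card_congr (B.equivMapOfInjective _ hf).toEquiv).symm
  have hcm : ∀ A : Subgroup Λ, (∀ a ∈ A, ∀ b ∈ A, a * b = b * a) → ∀ a ∈ A.map f, ∀ b ∈ A.map f, a * b = b * a := by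
    rintro A hA _ ⟨a, ha, rfl⟩ _ ⟨b, hb, rfl⟩
    rw [← map_mul, hA a ha b hb, map_mul]
  have hn : ∀ (A : Subgroup Λ) (g : Λ), (∀ a ∈ A, g * a * g⁻¹ ∈ A) → ∀ a ∈ A.map f, f g * a * (f g)⁻¹ ∈ A.map f := by
    rintro A g hg _ ⟨a, ha, rfl⟩
    exact ⟨_, hg a ha, by simp⟩
  refine ⟨?_, ?_, ?_, ?_⟩
  · intro A hA h27
    obtain ⟨h1, h2⟩ := h.ab (A.map f) (hcm A hA) (by rw [hc]; exact h27)
    rw [hc] at h1
    refine ⟨h1, fun a ha => hf ?_⟩
    rw [map_pow, map_one]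
    exact h2 _ ⟨a, ha, rfl⟩
  · intro A hA h27 g hg
    refine h.inv (A.map f) (hcm A hA) (by rw [hc, h27]) (f g) ?_
    rintro _ ⟨a, ha, rfl⟩
    rw [← map_inv, ← map_mul, ← map_mul, hg a ha, map_inv]
  · intro A hA h27 g hg B hBA h9 hcom
    have h1 := h.refl (A.map f) (hcm A hA) (by rw [hc, h27]) (f g) (hn A g hg) (B.map f) (Subgroup.map_mono hBA)
      (by rw [hc, h9]) (by
      rintro _ ⟨b, hb, rfl⟩
      rw [← map_mul, hcom b hb, map_mul])
    obtain ⟨a, ha, hag⟩ := h1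
    rwa [← hf hag]
  · intro A hA h27 g hg
    have h1 := h.nrm (A.map f) (hcm A hA) (by rw [hc, h27]) (f g) (hn A g hg)
    rwa [orderOf_injective f hf] at h1

end Cfsg.Agent.H343.A9
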