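import Cfsg.Agent.H343.A9Fin
import Cfsg.Agent.S2119

/-!
# S3339: the theorem (helper343)
-/

set_option autoImplicit false
set_option linter.unusedVariables false
set_option linter.unusedSectionVars false

namespace Cfsg.Agent.H343.A9

open Equiv Equiv.Perm Subgroup Cfsg Cfsg.Agent.H343.Red

universe u

/-! ### the group of the statement -/

/-- the numbering of the nine points -/
def e9 : X ≃ Fin 9 := finProdFinEquiv (m := 3) (n := 3)

/-- the isomorphism of the symmetric groups -/
def p9 : Perm X ≃* Perm (Fin 9) := e9.permCongrHom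

theorem p9_tr : ∀ v : Fin 3 → ZMod 3, p9 (tr v) = (swap (0 : Fin 9) 1 * swap 1 2) ^ (v 0).val *
    (swap (3 : Fin 9) 4 * swap 4 5) ^ (v 1).val * (swap (6 : Fin 9) 7 * swap 7 8) ^ (v 2).val := by
  decide +kernel

theorem map_K : K.map p9.toMonoidHom = Subgroup.closure {Equiv.swap (0 : Fin 9) 1 * Equiv.swap 1 2,
    Equiv.swap (3 : Fin 9) 4 * Equiv.swap 4 5, Equiv.swap (6 : Fin 9) 7 * Equiv.swap 7 8} := by
  apply le_antisymm
  · rintro _ ⟨_, ⟨v, rfl⟩, rfl⟩
    change p9 (tr v) ∈ _
    rw [p9_tr]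
    refine mul_mem (mul_mem (pow_mem (subset_closure ?_) _) (pow_mem (subset_closure ?_) _))
      (pow_mem (subset_closure ?_) _) <;> simp
  · rw [closure_le]
    have h0 : p9 (tr ![1, 0, 0]) = swap (0 : Fin 9) 1 * swap 1 2 := by decide +kernel
    have h1 : p9 (tr ![0, 1, 0]) = swap (3 : Fin 9) 4 * swap 4 5 := by decide +kernel
    have h2 : p9 (tr ![0, 0, 1]) = swap (6 : Fin 9) 7 * swap 7 8 := by decide +kernel
    intro y hy
    simp only [Set.mem_insert_iff, Set.mem_singleton_iff] at hy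
    rcases hy with rfl | rfl | rfl
    · exact ⟨_, ⟨_, rfl⟩, h0⟩
    · exact ⟨_, ⟨_, rfl⟩, h1⟩
    · exact ⟨_, ⟨_, rfl⟩, h2⟩

theorem map_alt : (alternatingGroup X).map p9.toMonoidHom = alternatingGroup (Fin 9) := by
  ext g
  constructor
  · rintro ⟨h, hh, rfl⟩
    rw [mem_alternatingGroup]
    change sign (e9.permCongr h) = 1
    rw [sign_permCongr]
    exact mem_alternatingGroup.mp hh
  · intro hg
    refine ⟨p9.symm g, ?_, p9.apply_symm_apply g⟩
    have h1 : sign (e9.permCongr (p9.symm g)) = sign g := congrArg sign (p9.apply_symm_apply g)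
    rw [sign_permCongr] at h1
    exact mem_alternatingGroup.mpr (h1.trans (mem_alternatingGroup.mp hg))

theorem exists_equiv (J₀ : Subgroup (Perm (Fin 9)))
    (hJ₀ : J₀ = Subgroup.closure {Equiv.swap (0 : Fin 9) 1 * Equiv.swap 1 2, Equiv.swap (3 : Fin 9) 4 *
      Equiv.swap 4 5, Equiv.swap (6 : Fin 9) 7 * Equiv.swap 7 8}) :
    Nonempty (↥(alternatingGroup (Fin 9) ⊓ Subgroup.normalizer (J₀ : Set (Perm (Fin 9)))) ≃* N) := by
  have h1 : N.map p9.toMonoidHom = alternatingGroup (Fin 9) ⊓ Subgroup.normalizer (J₀ : Set (Perm (Fin 9))) := by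
    have h2 : N = alternatingGroup X ⊓ normalizer (K : Set (Perm X)) := rfl
    rw [h2, Subgroup.map_inf_eq _ _ _ p9.injective, map_alt, hJ₀, ← map_K]
    congr 1
    exact Subgroup.map_equiv_normalizer_eq K p9
  exact ⟨((N.equivMapOfInjective p9.toMonoidHom p9.injective).trans (MulEquiv.subgroupCongr h1)).symm⟩

theorem mem_normalizer_of {G : Type*} [Group G] [Finite G] {J : Subgroup G} {g : G}
    (h : ∀ a ∈ J, g * a * g⁻¹ ∈ J) : g ∈ normalizer (J : Set G) := by
  have h1 : J.map (MulAut.conj g).toMonoidHom ≤ J := by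
    rintro _ ⟨a, ha, rfl⟩
    exact h a ha
  have h2 : J.map (MulAut.conj g).toMonoidHom = J :=
    Subgroup.eq_of_le_of_card_ge h1 (Subgroup.card_map_of_injective (MulAut.conj g).injective).ge
  rw [Subgroup.mem_normalizer_iff]
  intro a
  refine ⟨fun ha => h a ha, fun ha => ?_⟩
  have ha' : g * a * g⁻¹ ∈ J.map (MulAut.conj g).toMonoidHom := by rw [h2]; exact ha
  obtain ⟨b, hb, hb'⟩ := ha'
  have h3 : b = a := (MulAut.conj g).injective hb'
  rwa [← h3]

theorem loc_of {G : Type*} [Group G] [Finite G]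
    (J : Subgroup G) (hJcomm : IsMulCommutative J) (hJexp : ∀ a ∈ J, a ^ 3 = 1) (hJcard : Nat.card J = 27)
    (H : Subgroup G) (hH : H = Subgroup.normalizer (J : Set G))
    (J₀ : Subgroup (Equiv.Perm (Fin 9)))
    (hJ₀ : J₀ = Subgroup.closure {Equiv.swap (0 : Fin 9) 1 * Equiv.swap 1 2, Equiv.swap (3 : Fin 9) 4 * Equiv.swap 4 5, Equiv.swap (6 : Fin 9) 7 * Equiv.swap 7 8})
    (eH : H ≃* ↥(alternatingGroup (Fin 9) ⊓ Subgroup.normalizer (J₀ : Set (Equiv.Perm (Fin 9)))))
    (hcores : ∀ x ∈ H, orderOf x = 3 → Cfsg.pPrimeCore 3 (Subgroup.centralizer ({x} : Set G)) = ⊥) : Loc J H := by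
  have hJH : J ≤ H := by rw [hH]; exact le_normalizer
  obtain ⟨e⟩ := exists_equiv J₀ hJ₀
  have hlx := lx.congr (eH.trans e)
  have h1 : J.subgroupOf H = (K.subgroupOf N).comap (eH.trans e).toMonoidHom := by
    refine hlx.eq_J (n := 3) ?_ ?_ le_rfl
    · intro a ha b hb
      apply Subtype.ext
      have h0 := hJcomm.is_comm.comm (⟨(a : G), mem_subgroupOf.mp ha⟩ : J) ⟨(b : G), mem_subgroupOf.mp hb⟩
      exact congrArg (fun j : J => (j : G)) h0
    · rw [Nat.card_congr (Subgroup.subgroupOfEquivOfLe hJH).toEquiv, hJcard]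
      norm_num
  refine ⟨hJH, ?_, fun g hg => ?_, hcores⟩
  · rw [h1]
    exact hlx
  · rw [hH]
    exact mem_normalizer_of hg

/-! ### the theorem -/

theorem main (T : OrdDiv.OrderTable.{u}) (hS : ∀ (L : Type u) [Group L] [Finite L] [IsSimpleGroup L],
    Cfsg.IsKnownSimple' L) {G : Type u} [Group G] [Finite G] {J H : Subgroup G} (h : Loc J H) :
    H = ⊤ ∨ Nonempty (G ≃* alternatingGroup (Fin 9)) := by
  rcases h.reduce with h1 | ⟨M, hM, hMs, hna, hJM, hC⟩
  · exact Or.inl h1
  · right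
    have hc : C9 M := h.c9.of_injective M.subtype M.subtype_injective
    have h27 : 27 ∣ Nat.card M := by
      rw [← h.cardJ]
      exact Subgroup.card_dvd_of_le hJM
    have h243 : ¬ 3 ^ 5 ∣ Nat.card M := fun h5 => h.not_dvd (h5.trans (Subgroup.card_subgroup_dvd_card M))
    have hinj : Function.Injective (MulAut.conjNormal : G →* MulAut M) := by
      rw [injective_iff_map_eq_one]
      intro g hg
      have h2 : g ∈ centralizer (M : Set G) := by
        rw [mem_centralizer_iff]
        intro m hm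
        have h3 : ((MulAut.conjNormal g : MulAut M) ⟨m, hm⟩ : M) = ⟨m, hm⟩ := by rw [hg]; rfl
        have h4 := congrArg Subtype.val h3
        rw [MulAut.conjNormal_apply] at h4
        exact (mul_inv_eq_iff_eq_mul.mp h4).symm
      rwa [hC, mem_bot] at h2
    have h81 : 81 ∣ Nat.card (MulAut M) := h.dvd_card.trans (Subgroup.card_dvd_of_injective _ hinj)
    obtain ⟨e⟩ := elim T hc (h.coreF.normal hM)
      (H344.List81.kind_of_known T (hS M) hna (by norm_num; exact h27) h243) h27 h81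
    have hid := H497.AltId.ident (X := G) (K := M) (m := 7) (by norm_num) e hC (fun x => by
      obtain ⟨σ, hσ⟩ := (Cfsg.Agent.S2119.result 9 (by norm_num) (by norm_num)).surjective
        (MulAut.congr e (MulAut.conjNormal x))
      refine ⟨σ, fun k => ?_⟩
      have h5 : (MulAut.congr e (MulAut.conjNormal x)) (e k) = e (MulAut.conjNormal x k) := by
        change e (MulAut.conjNormal x (e.symm (e k))) = _
        rw [e.symm_apply_apply]
      rw [← h5, ← hσ]
      rfl)
    rcases hid with h6 | h6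
    · exact h6
    · obtain ⟨h6⟩ := h6
      exact (kill_sym9 (h.c9.congr h6)).elim

end Cfsg.Agent.H343.A9
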