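import Cfsg.Agent.H343.A9Loc
import Cfsg.Agent.Lib.Cores
import Cfsg.Agent.S0058

/-!
# Reduction of S3339 to a simple group (helper343)
-/

set_option autoImplicit false
set_option linter.unusedVariables false
set_option linter.unusedSectionVars false

namespace Cfsg.Agent.H343.A9

open Subgroup Cfsg Cfsg.Agent.H343.Red

universe u

variable {G : Type u} [Group G] [Finite G]

/-- self-centralizing -/
theorem C9.cent {Γ : Type*} [Group Γ] [Finite Γ] (h : C9 Γ) {A : Subgroup Γ} (hA : ∀ a ∈ A, ∀ b ∈ A, a * b = b * a)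
    (hc : Nat.card A = 27) {g : Γ} (hg : ∀ a ∈ A, g * a = a * g) : g ∈ A := by
  obtain ⟨B, hB, h9⟩ := exists_sub (A := A) (n := 3) (k := 2) (by rw [hc]; norm_num) (by norm_num)
  refine h.refl A hA hc g (fun a ha => ?_) B hB (by rw [h9]; norm_num) fun b hb => hg b (hB hb)
  rw [hg a ha, mul_inv_cancel_right]
  exact ha

/-- the `3'`-core of centralizers of elements of order three is trivial -/
def CoreF (Γ : Type*) [Group Γ] : Prop :=
  ∀ x : Γ, orderOf x = 3 → pPrimeCore 3 (centralizer ({x} : Set Γ)) = ⊥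

theorem pPrimeCore_congr {A B : Type*} [Group A] [Group B] (e : A ≃* B) (h : pPrimeCore 3 A = ⊥) :
    pPrimeCore 3 B = ⊥ := by
  rw [← Cfsg.Agent.Lib.Cores.map_equiv_pPrimeCore e, h, Subgroup.map_bot]

theorem map_centralizer {A B : Type*} [Group A] [Group B] (e : A ≃* B) (x : A) :
    (centralizer ({x} : Set A)).map e.toMonoidHom = centralizer ({e x} : Set B) := by
  ext y
  constructor
  · rintro ⟨z, hz, rfl⟩
    rw [SetLike.mem_coe, mem_centralizer_singleton_iff] at hz
    rw [mem_centralizer_singleton_iff]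
    change e z * e x = e x * e z
    rw [← map_mul, hz, map_mul]
  · intro hy
    rw [mem_centralizer_singleton_iff] at hy
    refine ⟨e.symm y, ?_, e.apply_symm_apply y⟩
    rw [SetLike.mem_coe, mem_centralizer_singleton_iff]
    apply e.injective
    rw [map_mul, map_mul, e.apply_symm_apply, hy]

theorem core_conj {A B : Type*} [Group A] [Group B] (e : A ≃* B) (x : A)
    (h : pPrimeCore 3 (centralizer ({x} : Set A)) = ⊥) : pPrimeCore 3 (centralizer ({e x} : Set B)) = ⊥ := by
  have e1 : centralizer ({x} : Set A) ≃* (centralizer ({x} : Set A)).map e.toMonoidHom :=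
    (centralizer ({x} : Set A)).equivMapOfInjective _ e.injective
  have e2 : (centralizer ({x} : Set A)).map e.toMonoidHom ≃* centralizer ({e x} : Set B) :=
    MulEquiv.subgroupCongr (map_centralizer e x)
  exact pPrimeCore_congr (e1.trans e2) h

theorem Loc.coreF {J H : Subgroup G} (h : Loc J H) : CoreF G := by
  intro x hx
  obtain ⟨P, hPH, hP, hJP⟩ := h.exists_P
  obtain ⟨g, hg⟩ := h.exists_conj hP (R := zpowers x) (n := 1) (by rw [Nat.card_zpowers, hx, pow_one])
  have h1 : g * x * g⁻¹ ∈ H := hPH (hg (conj_mem_cj (mem_zpowers x)))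
  have h2 : orderOf (g * x * g⁻¹) = 3 := by rw [← MulAut.conj_apply, MulEquiv.orderOf_eq, hx]
  have h3 := core_conj (MulAut.conj g⁻¹) _ (h.core _ h1 h2)
  have h4 : MulAut.conj g⁻¹ (g * x * g⁻¹) = x := by
    rw [MulAut.conj_apply]
    group
  rwa [h4] at h3

/-- normal `3'`-subgroups of a centralizer are trivial -/
theorem CoreF.eq_bot (h : CoreF G) {x : G} (hx : orderOf x = 3) {K : Subgroup G} (hK : K ≤ centralizer ({x} : Set G))
    (hn : ∀ c ∈ centralizer ({x} : Set G), ∀ k ∈ K, c * k * c⁻¹ ∈ K) (h3 : ¬ 3 ∣ Nat.card K) : K = ⊥ := by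
  have h1 : (K.subgroupOf (centralizer ({x} : Set G))).Normal := ⟨fun k hk c => hn c c.2 k hk⟩
  have h2 : (Nat.card (K.subgroupOf (centralizer ({x} : Set G)))).Coprime 3 := by
    rw [Loc.card_subgroupOf hK]
    exact ((Nat.Prime.coprime_iff_not_dvd Nat.prime_three).mpr h3).symm
  have h4 := Cfsg.Agent.Lib.Cores.le_pPrimeCore h1 h2
  rw [h x hx, le_bot_iff, subgroupOf_eq_bot, disjoint_iff, inf_of_le_left hK] at h4
  exact h4

/-- the property goes to normal subgroups -/
theorem CoreF.normal (h : CoreF G) {N : Subgroup G} (hN : N.Normal) : CoreF N := by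
  intro x hx
  have hx' : orderOf (x : G) = 3 := by rw [Subgroup.orderOf_coe, hx]
  set C := centralizer ({(x : G)} : Set G) with hC
  have hNC : (N.subgroupOf C).Normal := inferInstance
  have h1 := Cfsg.Agent.Lib.Cores.map_subtype_pPrimeCore (G := C) 3 hNC
  rw [h x hx', inf_bot_eq, Subgroup.map_eq_bot_iff_of_injective _ (Subgroup.subtype_injective _)] at h1
  let e : ↥(N.subgroupOf C) ≃* ↥(centralizer ({x} : Set N)) :=
    { toFun := fun y => ⟨⟨y.1.1, y.2⟩, by
        rw [mem_centralizer_singleton_iff]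
        apply Subtype.ext
        exact mem_centralizer_singleton_iff.mp y.1.2⟩
      invFun := fun y => ⟨⟨y.1.1, by
        rw [hC, mem_centralizer_singleton_iff]
        exact congrArg Subtype.val (mem_centralizer_singleton_iff.mp y.2)⟩, y.1.2⟩
      left_inv := fun y => rfl
      right_inv := fun y => rfl
      map_mul' := fun a b => rfl }
  exact pPrimeCore_congr e h1

theorem CoreF.congr {A B : Type*} [Group A] [Group B] (e : A ≃* B) (h : CoreF A) : CoreF B := by
  intro y hy
  obtain ⟨x, rfl⟩ := e.surjective y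
  exact core_conj e x (h x (by rwa [MulEquiv.orderOf_eq] at hy))

namespace Loc

variable {J H : Subgroup G}

theorem not_cyclic (h : Loc J H) : ¬ IsCyclic J := by
  intro hc
  obtain ⟨g, hg⟩ := hc.exists_generator
  have h1 := orderOf_eq_card_of_forall_mem_zpowers hg
  rw [h.cardJ] at h1
  have h2 : g ^ 3 = 1 := Subtype.ext (h.exp g.2)
  have h3 := orderOf_dvd_of_pow_eq_one h2
  rw [h1] at h3
  norm_num at h3

theorem normal_three (h : Loc J H) {N : Subgroup G} (hN : N.Normal) (h3 : ¬ 3 ∣ Nat.card N) : N = ⊥ := by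
  have : IsMulCommutative J := ⟨⟨fun a b => Subtype.ext (h.comm a.2 b.2)⟩⟩
  have hcop : (Nat.card J).Coprime (Nat.card N) := by
    rw [h.cardJ, show 27 = 3 ^ 3 by norm_num]
    exact Nat.Coprime.pow_left 3 ((Nat.Prime.coprime_iff_not_dvd Nat.prime_three).mpr h3)
  have h1 := Cfsg.Agent.S0058.result J N h.not_cyclic (by rw [normalizer_eq_top_iff.mpr hN]; exact le_top) hcop
  rw [← h1, eq_bot_iff]
  refine iSup₂_le fun v hv => ?_
  have hv1 : orderOf v = 3 := orderOf_eq_prime_iff.mpr ⟨h.exp hv.1, hv.2⟩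
  refine (h.coreF.eq_bot hv1 inf_le_right ?_ ?_).le
  · intro c hc k hk
    refine ⟨hN.conj_mem k hk.1 c, ?_⟩
    exact (centralizer ({v} : Set G)).mul_mem ((centralizer ({v} : Set G)).mul_mem hc hk.2)
      ((centralizer ({v} : Set G)).inv_mem hc)
  · intro hcon
    exact h3 (hcon.trans (Subgroup.card_dvd_of_le inf_le_left))

/-- normal subgroups of order divisible by 3 contain `J` -/
theorem le_of_three (h : Loc J H) {N : Subgroup G} (hN : N.Normal) (h3 : 3 ∣ Nat.card N) : J ≤ N := by
  have : Fact (Nat.Prime 3) := ⟨Nat.prime_three⟩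
  letI : MulAction J N := MulAction.compHom N ((MulAut.conjNormal : G →* MulAut N).comp J.subtype)
  have hsm : ∀ (j : J) (n : N), ((j • n : N) : G) = j * n * (j : G)⁻¹ := fun j n => rfl
  have hp : IsPGroup 3 J := IsPGroup.of_card (n := 3) (by rw [h.cardJ]; norm_num)
  have h1 := hp.card_modEq_card_fixedPoints (α := N)
  have h2 : 3 ∣ Nat.card (MulAction.fixedPoints J N) :=
    (Nat.modEq_zero_iff_dvd.mp (h1.symm.trans (Nat.modEq_zero_iff_dvd.mpr h3)))
  have h4 : N ⊓ J ≠ ⊥ := by
    intro hbot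
    have h5 : Subsingleton (MulAction.fixedPoints J N) := by
      refine ⟨fun a b => ?_⟩
      have key : ∀ a : MulAction.fixedPoints J N, ((a : N) : G) = 1 := by
        rintro ⟨a, ha⟩
        have h6 : (a : G) ∈ N ⊓ J := by
          refine ⟨a.2, h.cent fun j hj => ?_⟩
          have h7 := congrArg Subtype.val (ha ⟨j, hj⟩)
          rw [hsm] at h7
          exact (mul_inv_eq_iff_eq_mul.mp h7).symm
        rw [hbot, mem_bot] at h6
        exact h6
      apply Subtype.ext
      apply Subtype.ext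
      rw [key, key]
    have h6 : Nat.card (MulAction.fixedPoints J N) ≤ 1 := Finite.card_le_one_iff_subsingleton.mpr h5
    have h7 : 0 < Nat.card (MulAction.fixedPoints J N) := by
      have : Nonempty (MulAction.fixedPoints J N) := ⟨⟨1, fun j => Subtype.ext (by rw [hsm]; simp)⟩⟩
      exact Nat.card_pos
    omega
  rcases h.irr (B := N ⊓ J) inf_le_right (fun g hg b hb => ⟨hN.conj_mem b hb.1 g, h.nrm hg hb.2⟩) with h5 | h5
  · exact absurd h5 h4
  · rw [← h5]
    exact inf_le_left

end Loc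

/-- Burnside: a Sylow 3-subgroup of a nonabelian simple group is not central in its normalizer -/
theorem exists_norm {S : Type*} [Group S] [Finite S] [IsSimpleGroup S] (hna : ¬ ∀ a b : S, a * b = b * a)
    (T : Sylow 3 S) (h3 : 3 ∣ Nat.card S) :
    ∃ g : S, (∀ t ∈ (T : Subgroup S), g * t * g⁻¹ ∈ (T : Subgroup S)) ∧ ∃ t ∈ (T : Subgroup S), g * t ≠ t * g := by
  have : Fact (Nat.Prime 3) := ⟨Nat.prime_three⟩
  by_contra hcon
  push Not at hcon
  have hle : normalizer (T : Set S) ≤ centralizer (T : Set S) := by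
    intro g hg
    rw [mem_centralizer_iff]
    intro t ht
    exact (hcon g (fun t ht => (mem_normalizer_iff.mp hg t).mp ht) t ht).symm
  have h1 := MonoidHom.ker_transferSylow_isComplement' T hle
  have hTne : (T : Subgroup S) ≠ ⊥ := by
    intro h0
    have := T.dvd_card_of_dvd_card h3
    rw [h0] at this
    simp at this
  rcases (MonoidHom.normal_ker (MonoidHom.transferSylow T hle)).eq_bot_or_eq_top with h2 | h2
  · rw [h2, isComplement'_bot_left] at h1
    apply hna
    intro a b
    have ha : a ∈ (T : Subgroup S) := by rw [h1]; trivial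
    have hb : b ∈ (T : Subgroup S) := by rw [h1]; trivial
    exact (mem_centralizer_iff.mp (hle (le_normalizer ha)) b hb).symm
  · rw [h2, isComplement'_top_left] at h1
    exact hTne h1


theorem comm_of_card_le {T : Subgroup G} {a : ℕ} (hT : Nat.card T = 3 ^ a) (ha : a ≤ 2) :
    ∀ x ∈ T, ∀ y ∈ T, x * y = y * x := by
  have : Fact (Nat.Prime 3) := ⟨Nat.prime_three⟩
  have h : ∀ x y : T, x * y = y * x := by
    interval_cases a
    · have : Subsingleton T := (Nat.card_eq_one_iff_unique.mp (by rw [hT, pow_zero])).1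
      exact fun x y => Subsingleton.elim _ _
    · have hc : IsCyclic T := isCyclic_of_prime_card (p := 3) (by rw [hT, pow_one])
      have := hc.isMulCommutative
      exact this.is_comm.comm
    · exact (IsPGroup.isMulCommutative_of_card_eq_prime_sq hT).is_comm.comm
  intro x hx y hy
  exact congrArg Subtype.val (h ⟨x, hx⟩ ⟨y, hy⟩)

namespace Loc

variable {J H : Subgroup G}

theorem three_minIn (h : Loc J H) {N : Subgroup G} (hN : N.Normal) {S : Subgroup G} (hS : MinIn N S) :
    3 ∣ Nat.card S := by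
  by_contra h3
  have hSn : (S.subgroupOf N).Normal := ⟨fun x hx g => hS.norm g.1 g.2 x.1 hx⟩
  have hc : (Nat.card (S.subgroupOf N)).Coprime 3 := by
    rw [Nat.card_congr (Subgroup.subgroupOfEquivOfLe hS.le).toEquiv]
    exact ((Nat.Prime.coprime_iff_not_dvd Nat.prime_three).mpr h3).symm
  have h1 := Cfsg.Agent.Lib.Cores.le_pPrimeCore hSn hc
  have h2 := Cfsg.Agent.Lib.Cores.pPrimeCore_coprime (G := N) 3
  have h4 := Cfsg.Agent.Lib.Cores.pPrimeCore_characteristic (G := N) 3
  have h5 : ((pPrimeCore 3 N).map N.subtype).Normal := by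
    have := hN
    exact ConjAct.normal_of_characteristic_of_normal
  have h6 : ¬ 3 ∣ Nat.card ((pPrimeCore 3 N).map N.subtype) := by
    rw [← Nat.card_congr ((pPrimeCore 3 N).equivMapOfInjective _ N.subtype_injective).toEquiv]
    exact (Nat.Prime.coprime_iff_not_dvd Nat.prime_three).mp h2.symm
  have h7 := h.normal_three h5 h6
  rw [Subgroup.map_eq_bot_iff_of_injective _ N.subtype_injective] at h7
  rw [h7, le_bot_iff, subgroupOf_eq_bot] at h1
  exact hS.ne (by
    rw [disjoint_iff, inf_of_le_left hS.le] at h1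
    exact h1)

/-- a nonabelian minimal normal subgroup is simple -/
theorem simple_of_min (h : Loc J H) {N : Subgroup G} (hN : MinNormal N) (h3N : 3 ∣ Nat.card N)
    (hna : ¬ ∀ a ∈ N, ∀ b ∈ N, a * b = b * a) : IsSimpleGroup N := by
  have : Fact (Nat.Prime 3) := ⟨Nat.prime_three⟩
  have hc9 := h.c9
  have hJN := h.le_of_three hN.normal h3N
  refine isSimpleGroup_of_minIn hN.ne fun S hS => ?_
  by_contra hSN
  have hS3 := h.three_minIn hN.normal hS
  set C : Subgroup G := N ⊓ centralizer (S : Set G) with hCdef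
  have hCS : ∀ c ∈ C, ∀ s ∈ S, c * s = s * c := fun c hc s hs => (mem_centralizer_iff.mp hc.2 s hs).symm
  have hother : ∀ g : G, cj g S ≠ S → cj g S ≤ C := by
    intro g hg x hx
    refine ⟨(hS.conj hN.normal g).le hx, mem_centralizer_iff.mpr fun s hs => ?_⟩
    exact hS.comm (hS.conj hN.normal g) hg.symm s hs x hx
  -- another conjugate
  obtain ⟨g₁, hg₁⟩ : ∃ g : G, cj g S ≠ S := by
    by_contra hcon
    push Not at hcon
    apply hSN
    apply hN.min S _ hS.le hS.ne
    refine ⟨fun s hs g => ?_⟩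
    have h1 := conj_mem_cj (g := g) hs
    rw [hcon g] at h1
    exact h1
  have hN' : N = S ⊔ C := by
    apply le_antisymm _ (sup_le hS.le inf_le_left)
    have h1 : Subgroup.normalClosure (S : Set G) ≤ S ⊔ C := by
      unfold normalClosure
      rw [closure_le]
      intro x hx
      rw [Group.mem_conjugatesOfSet_iff] at hx
      obtain ⟨s, hs, hc⟩ := hx
      obtain ⟨c, hc⟩ := isConj_iff.mp hc
      rw [← hc]
      by_cases hcS : cj c S = S
      · have h2 := conj_mem_cj (g := c) hs
        rw [hcS] at h2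
        exact (le_sup_left : S ≤ S ⊔ C) h2
      · exact (le_sup_right : C ≤ S ⊔ C) (hother c hcS (conj_mem_cj hs))
    have h2 : Subgroup.normalClosure (S : Set G) = N := by
      apply hN.min _ normalClosure_normal
      · have := hN.normal
        exact normalClosure_le_normal hS.le
      · intro h0
        exact hS.ne (le_bot_iff.mp (h0 ▸ (le_normalClosure : S ≤ _)))
    exact h2.symm.le.trans h1
  have hinf : S ⊓ C = ⊥ := by
    by_contra h0
    have h1 := hS.min (S ⊓ C) inf_le_left h0 (by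
      intro n hn s hs
      refine ⟨hS.norm n hn s hs.1, hN.normal.conj_mem s hs.2.1 n, mem_centralizer_iff.mpr fun r hr => ?_⟩
      have h2 := hS.norm n⁻¹ (N.inv_mem hn) r hr
      have h3 := hCS s hs.2 _ h2
      calc r * (n * s * n⁻¹) = n * ((n⁻¹ * r * n⁻¹⁻¹) * s) * n⁻¹ := by group
        _ = n * (s * (n⁻¹ * r * n⁻¹⁻¹)) * n⁻¹ := by rw [h3]
        _ = n * s * n⁻¹ * r := by group)
    have hSab : ∀ a ∈ S, ∀ b ∈ S, a * b = b * a := by
      intro a ha b hb
      rw [← h1] at ha
      exact hCS a ha.2 b hb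
    have hZ : S ≤ (Subgroup.center N).map N.subtype := by
      intro s hs
      refine ⟨⟨s, hS.le hs⟩, ?_, rfl⟩
      rw [SetLike.mem_coe, mem_center_iff]
      rintro ⟨n, hn⟩
      apply Subtype.ext
      change n * s = s * n
      have hn2 : n ∈ S ⊔ C := hN' ▸ hn
      obtain ⟨a, ha, c, hc, rfl⟩ := mem_sup_of_norm (A := S) (B := C)
        (fun b hb a ha => by rw [hCS b hb a ha, mul_inv_cancel_right]; exact ha) hn2
      calc a * c * s = a * (c * s) := by group
        _ = a * (s * c) := by rw [hCS c hc s hs]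
        _ = (a * s) * c := by group
        _ = (s * a) * c := by rw [hSab a ha s hs]
        _ = s * (a * c) := by group
    have hZn : ((Subgroup.center N).map N.subtype).Normal := by
      have := hN.normal
      exact ConjAct.normal_of_characteristic_of_normal
    have hZN := hN.min _ hZn (map_subtype_le _) (fun h0 => hS.ne (le_bot_iff.mp (h0 ▸ hZ)))
    apply hna
    intro a ha b hb
    rw [← hZN] at ha
    obtain ⟨z, hz, rfl⟩ := ha
    have := mem_center_iff.mp hz ⟨b, hb⟩
    exact (congrArg Subtype.val this).symm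
  have hnorm : ∀ b ∈ C, ∀ a ∈ S, b * a * b⁻¹ ∈ S := fun b hb a ha => by
    rw [hCS b hb a ha, mul_inv_cancel_right]; exact ha
  have hcard : Nat.card N = Nat.card S * Nat.card C := by
    have h1 := card_sup hnorm
    rw [hinf, ← hN', Subgroup.card_bot, mul_one] at h1
    exact h1
  have hdvd : Nat.card S ∣ Nat.card C := by
    have := Subgroup.card_dvd_of_le (hother g₁ hg₁)
    rwa [card_cj] at this
  -- `S` is simple and nonabelian
  have hSsimple : IsSimpleGroup S := by
    refine isSimpleGroup_of_minIn hS.ne fun R hR => ?_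
    refine hS.min R hR.le hR.ne fun n hn r hr => ?_
    have hn2 : n ∈ S ⊔ C := hN' ▸ hn
    obtain ⟨a, ha, c, hc, rfl⟩ := mem_sup_of_norm (A := S) (B := C) hnorm hn2
    have h1 := hCS c hc r (hR.le hr)
    have h2 : a * c * r * (a * c)⁻¹ = a * (c * r) * c⁻¹ * a⁻¹ := by group
    rw [h2, h1]
    have h3 : a * (r * c) * c⁻¹ * a⁻¹ = a * r * a⁻¹ := by group
    rw [h3]
    exact hR.norm a ha r hr
  have hSna : ¬ ∀ a b : S, a * b = b * a := by
    intro hab
    apply hS.ne
    rw [← hinf]
    refine le_antisymm (le_inf le_rfl ?_) inf_le_left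
    intro s hs
    refine ⟨hS.le hs, mem_centralizer_iff.mpr fun r hr => ?_⟩
    exact congrArg Subtype.val (hab ⟨r, hr⟩ ⟨s, hs⟩)
  -- Sylow subgroups
  obtain ⟨T⟩ : Nonempty (Sylow 3 S) := inferInstance
  obtain ⟨T'⟩ : Nonempty (Sylow 3 C) := inferInstance
  set Tm := (T : Subgroup S).map S.subtype with hTm
  set Tn := (T' : Subgroup C).map C.subtype with hTn
  have hTmS : Tm ≤ S := map_subtype_le _
  have hTnC : Tn ≤ C := map_subtype_le _
  set a := (Nat.card S).factorization 3 with ha
  set b := (Nat.card C).factorization 3 with hb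
  have hTc : Nat.card Tm = 3 ^ a := by
    rw [hTm, ← Nat.card_congr ((T : Subgroup S).equivMapOfInjective _ S.subtype_injective).toEquiv]
    exact T.card_eq_multiplicity
  have hTnc : Nat.card Tn = 3 ^ b := by
    rw [hTn, ← Nat.card_congr ((T' : Subgroup C).equivMapOfInjective _ C.subtype_injective).toEquiv]
    exact T'.card_eq_multiplicity
  have hS0 : Nat.card S ≠ 0 := Nat.card_pos.ne'
  have hC0 : Nat.card C ≠ 0 := Nat.card_pos.ne'
  have hN0 : Nat.card N ≠ 0 := Nat.card_pos.ne'
  have hab : (Nat.card N).factorization 3 = a + b := by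
    rw [hcard, Nat.factorization_mul hS0 hC0]; rfl
  have ha1 : 1 ≤ a := (Nat.prime_three.dvd_iff_one_le_factorization hS0).mp hS3
  have hab' : a ≤ b := (Nat.factorization_le_iff_dvd hS0 hC0).mpr hdvd 3
  have hge : 3 ≤ a + b := by
    rw [← hab, ← Nat.prime_three.pow_dvd_iff_le_factorization hN0]
    have := Subgroup.card_dvd_of_le hJN
    rw [h.cardJ] at this
    norm_num
    exact this
  have hle4 : a + b ≤ 4 := by
    by_contra hcon
    apply h.not_dvd
    refine ((Nat.prime_three.pow_dvd_iff_le_factorization hN0).mpr (by rw [hab]; omega : 5 ≤ _)).trans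
      (Subgroup.card_subgroup_dvd_card N)
  have ha2 : a ≤ 2 := by omega
  have hcomT : ∀ x ∈ Tn, ∀ y ∈ Tm, x * y = y * x := fun x hx y hy => hCS x (hTnC hx) y (hTmS hy)
  have hTnorm : ∀ x ∈ Tn, ∀ y ∈ Tm, x * y * x⁻¹ ∈ Tm := fun x hx y hy => by
    rw [hcomT x hx y hy, mul_inv_cancel_right]; exact hy
  set Q := Tm ⊔ Tn with hQ
  have hQc : Nat.card Q = 3 ^ (a + b) := by
    have h1 := card_sup hTnorm
    have h2 : Tm ⊓ Tn = ⊥ := by
      rw [eq_bot_iff, ← hinf]
      exact inf_le_inf hTmS hTnC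
    rw [h2, Subgroup.card_bot, mul_one, hTc, hTnc, ← pow_add] at h1
    exact h1
  have hQN : Q ≤ N := sup_le (hTmS.trans hS.le) (hTnC.trans inf_le_left)
  -- conjugate `J` into `Q`
  obtain ⟨n, hn, hnQ⟩ : ∃ n ∈ N, cj n J ≤ Q := by
    let SQ : Sylow 3 N := Sylow.ofCard (Q.subgroupOf N) (by rw [card_subgroupOf hQN, hQc, hab])
    obtain ⟨R, hR⟩ := IsPGroup.exists_le_sylow (p := 3) (P := J.subgroupOf N)
      (IsPGroup.of_card (n := 3) (by rw [card_subgroupOf hJN, h.cardJ]; norm_num))
    obtain ⟨n, hn⟩ := MulAction.exists_smul_eq N R SQ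
    refine ⟨n, n.2, ?_⟩
    rintro _ ⟨j, hj, rfl⟩
    have h1 : n * ⟨j, hJN hj⟩ * n⁻¹ ∈ ((n • R : Sylow 3 N) : Subgroup N) := by
      rw [Sylow.coe_subgroup_smul]
      exact ⟨⟨j, hJN hj⟩, hR hj, rfl⟩
    rw [hn] at h1
    exact h1
  set A := cj n J with hA
  have hAc : Nat.card A = 27 := by rw [hA, card_cj, h.cardJ]
  have hAab : ∀ x ∈ A, ∀ y ∈ A, x * y = y * x := by
    rintro _ ⟨x, hx, rfl⟩ _ ⟨y, hy, rfl⟩
    rw [← map_mul, h.comm hx hy, map_mul]
  have hTab := comm_of_card_le hTc ha2
  have hQdec : ∀ x ∈ Q, ∃ t ∈ Tm, ∃ t' ∈ Tn, x = t * t' := fun x hx => mem_sup_of_norm hTnorm hx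
  have hTA : Tm ≤ A := by
    intro t ht
    apply hc9.cent hAab hAc
    intro x hx
    obtain ⟨s, hs, s', hs', rfl⟩ := hQdec x (hnQ hx)
    calc t * (s * s') = (t * s) * s' := by group
      _ = (s * t) * s' := by rw [hTab t ht s hs]
      _ = s * (t * s') := by group
      _ = s * (s' * t) := by rw [hcomT s' hs' t ht]
      _ = s * s' * t := by group
  -- an element of `S` normalizing `A`
  obtain ⟨g, hg1, t₀, ht₀, hgt⟩ := exists_norm hSna T hS3
  have hgT : ∀ t ∈ Tm, (g : G) * t * (g : G)⁻¹ ∈ Tm := by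
    rintro _ ⟨t, ht, rfl⟩
    exact ⟨g * t * g⁻¹, hg1 t ht, rfl⟩
  have hgA : ∀ x ∈ A, (g : G) * x * (g : G)⁻¹ ∈ A := by
    intro x hx
    obtain ⟨s, hs, s', hs', rfl⟩ := hQdec x (hnQ hx)
    have h1 := hCS s' (hTnC hs') g g.2
    have h2 : (g : G) * (s * s') * (g : G)⁻¹ = (g * s * (g : G)⁻¹) * s⁻¹ * (s * s') := by
      calc (g : G) * (s * s') * (g : G)⁻¹ = g * s * (g : G)⁻¹ * (g * s') * (g : G)⁻¹ := by group
        _ = g * s * (g : G)⁻¹ * (s' * g) * (g : G)⁻¹ := by rw [h1]
        _ = _ := by group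
    rw [h2]
    exact A.mul_mem (A.mul_mem (hTA (hgT s hs)) (A.inv_mem (hTA hs))) hx
  -- `A ∩ Tn`
  have hinf2 : 3 ^ a * Nat.card ↥(Tn ⊓ A) = 27 := by
    have h1 : ∀ x ∈ A, ∀ y ∈ Tn, x * y * x⁻¹ ∈ Tn := by
      intro x hx y hy
      obtain ⟨s, hs, s', hs', rfl⟩ := hQdec x (hnQ hx)
      have h2 := hcomT (s' * y * s'⁻¹) (Tn.mul_mem (Tn.mul_mem hs' hy) (Tn.inv_mem hs')) s hs
      have h3 : s * s' * y * (s * s')⁻¹ = s * (s' * y * s'⁻¹) * s⁻¹ := by group
      rw [h3, ← h2, mul_inv_cancel_right]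
      exact Tn.mul_mem (Tn.mul_mem hs' hy) (Tn.inv_mem hs')
    have h2 := card_sup h1
    have h3 : Tn ⊔ A = Q := le_antisymm (sup_le le_sup_right hnQ) (sup_le (hTA.trans le_sup_right) le_sup_left)
    rw [h3, hQc, hTnc, hAc, pow_add] at h2
    have h4 : 3 ^ b * (3 ^ a * Nat.card ↥(Tn ⊓ A)) = 3 ^ b * 27 := by rw [← h2]; ring
    exact Nat.eq_of_mul_eq_mul_left (by positivity) h4
  have ha12 : a = 1 ∨ a = 2 := by omega
  rcases ha12 with h1 | h1
  · -- reflection
    rw [h1] at hinf2
    have h9 : Nat.card ↥(Tn ⊓ A) = 9 := by omega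
    have hgmem := hc9.refl A hAab hAc g hgA (Tn ⊓ A) inf_le_right h9 fun x hx =>
      (hCS x (hTnC hx.1) g g.2).symm
    apply hgt
    apply Subtype.ext
    exact hAab _ hgmem _ (hTA ⟨t₀, ht₀, rfl⟩)
  · have hb2 : b = 2 := by omega
    have hT'ab := comm_of_card_le hTnc (by omega : b ≤ 2)
    have hQab : ∀ x ∈ Q, ∀ y ∈ Q, x * y = y * x := by
      intro x hx y hy
      obtain ⟨s, hs, s', hs', rfl⟩ := hQdec x hx
      obtain ⟨r, hr, r', hr', rfl⟩ := hQdec y hy
      calc s * s' * (r * r') = s * (s' * r) * r' := by group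
        _ = s * (r * s') * r' := by rw [hcomT s' hs' r hr]
        _ = (s * r) * (s' * r') := by group
        _ = (r * s) * (r' * s') := by rw [hTab s hs r hr, hT'ab s' hs' r' hr']
        _ = r * (s * r') * s' := by group
        _ = r * (r' * s) * s' := by rw [hcomT r' hr' s hs]
        _ = r * r' * (s * s') := by group
    have h2 := (hc9.ab Q hQab (by rw [hQc, h1, hb2]; norm_num)).1
    rw [hQc, h1, hb2] at h2
    norm_num at h2

/-- **the reduction** -/
theorem reduce (h : Loc J H) : H = ⊤ ∨ ∃ N : Subgroup G, N.Normal ∧ IsSimpleGroup N ∧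
    (¬ ∀ a b : N, a * b = b * a) ∧ J ≤ N ∧ centralizer (N : Set G) = ⊥ := by
  have hne : (⊤ : Subgroup G) ≠ ⊥ := by
    intro h0
    have h1 := Subgroup.card_subgroup_dvd_card J
    rw [h.cardJ, ← Subgroup.card_top (G := G), h0, Subgroup.card_bot] at h1
    norm_num at h1
  obtain ⟨N, -, hN⟩ := exists_minNormal (X := G) (M := ⊤) inferInstance hne
  have h3 : 3 ∣ Nat.card N := by
    by_contra h3
    exact hN.ne (h.normal_three hN.normal h3)
  have hJN := h.le_of_three hN.normal h3
  by_cases hab : ∀ a ∈ N, ∀ b ∈ N, a * b = b * a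
  · left
    have h1 : N = J := le_antisymm (fun n hn => h.cent fun a ha => hab n hn a (hJN ha)) hJN
    rw [eq_top_iff]
    intro g _
    exact h.nH g fun a ha => by
      rw [← h1] at ha ⊢
      exact hN.normal.conj_mem a ha g
  · right
    have hs := h.simple_of_min hN h3 hab
    have hna : ¬ ∀ a b : N, a * b = b * a := fun hcon =>
      hab fun a ha b hb => congrArg Subtype.val (hcon ⟨a, ha⟩ ⟨b, hb⟩)
    refine ⟨N, hN.normal, hs, hna, hJN, ?_⟩
    rw [eq_bot_iff]
    intro g hg
    have hgN : g ∈ N := hJN (h.cent fun a ha => (mem_centralizer_iff.mp hg a (hJN ha)).symm)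
    have hZ : (⟨g, hgN⟩ : N) ∈ Subgroup.center N := by
      rw [mem_center_iff]
      intro x
      exact Subtype.ext (mem_centralizer_iff.mp hg x x.2)
    rcases hs.eq_bot_or_eq_top_of_normal _ (inferInstance : (Subgroup.center N).Normal) with h4 | h4
    · rw [h4, mem_bot] at hZ
      exact congrArg Subtype.val hZ
    · exfalso
      apply hna
      intro a b
      have : a ∈ Subgroup.center N := by rw [h4]; trivial
      exact (mem_center_iff.mp this b).symm

end Loc

end Cfsg.Agent.H343.A9
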