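import Cfsg.Agent.OrdDiv.Main

/-!
# Arithmetic for the elimination with `|L|_3 = 3^6` (helper343)
-/

set_option autoImplicit false

namespace Cfsg.Agent.H343

open Cfsg Cfsg.Agent.OrdDiv

/-- the bound for the orders of the centralizers of elements of order 3 -/
def N1 : ℕ := 2 ^ 36 * 3 ^ 6 * 5 * 7 * 11

theorem qlist {q : ℕ} (hq : IsPrimePow q) (h : q * (q ^ 2 - 1) ∣ 2 * N1) :
    q ∈ [2, 3, 4, 5, 7, 8, 9, 11] := by
  obtain ⟨p, k, hp, hk, rfl⟩ := (isPrimePow_nat_iff _).mp hq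
  have h1 : p ^ k ∣ 2 * N1 := (Dvd.intro _ rfl).trans h
  have h2 : p ∣ 2 * N1 := (dvd_pow_self p hk.ne').trans h1
  have h3 : p ∈ [2, 3, 5, 7, 11] := by
    have h4 : p ∣ 2 ^ 37 * 3 ^ 6 * 5 * 7 * 11 := by
      have : 2 ^ 37 * 3 ^ 6 * 5 * 7 * 11 = 2 * N1 := by decide
      rw [this]; exact h2
    rcases (Nat.Prime.dvd_mul hp).mp h4 with h4 | h4
    · rcases (Nat.Prime.dvd_mul hp).mp h4 with h4 | h4
      · rcases (Nat.Prime.dvd_mul hp).mp h4 with h4 | h4
        · rcases (Nat.Prime.dvd_mul hp).mp h4 with h4 | h4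
          · rw [(Nat.prime_dvd_prime_iff_eq hp Nat.prime_two).mp (hp.dvd_of_dvd_pow h4)]; decide
          · rw [(Nat.prime_dvd_prime_iff_eq hp Nat.prime_three).mp (hp.dvd_of_dvd_pow h4)]; decide
        · rw [(Nat.prime_dvd_prime_iff_eq hp Nat.prime_five).mp h4]; decide
      · rw [(Nat.prime_dvd_prime_iff_eq hp (by norm_num : Nat.Prime 7)).mp h4]; decide
    · rw [(Nat.prime_dvd_prime_iff_eq hp (by norm_num : Nat.Prime 11)).mp h4]; decide
  have h5 : k < 38 := by
    by_contra hcon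
    have h6 : 2 ^ 38 ≤ p ^ k :=
      (Nat.pow_le_pow_right (by norm_num) (by omega : 38 ≤ k)).trans (Nat.pow_le_pow_left hp.two_le k)
    have h7 : p ^ 38 ∣ 2 * N1 := (pow_dvd_pow p (by omega)).trans h1
    have h8 : ∀ p ∈ [2, 3, 5, 7, 11], ¬ p ^ 38 ∣ 2 * N1 := by decide +kernel
    exact h8 p h3 h7
  have h9 : ∀ p ∈ [2, 3, 5, 7, 11], ∀ k < 38, 0 < k → p ^ k * ((p ^ k) ^ 2 - 1) ∣ 2 * N1 →
      p ^ k ∈ [2, 3, 4, 5, 7, 8, 9, 11] := by decide +kernel
  exact h9 p h3 k h5 hk h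

/-- `den * c = num` is incompatible with `3 ^ 6 ∥ c` -/
def bad (den num : ℕ) : Bool :=
  !(Nat.beq (num % (den * 3 ^ 6)) 0) || (Nat.beq (num % (den * 3 ^ 7)) 0)

theorem kill {den num c : ℕ} (hd : 0 < den) (h : den * c = num) (h6 : 3 ^ 6 ∣ c) (h7 : ¬ 3 ^ 7 ∣ c)
    (hb : bad den num = true) : False := by
  unfold bad at hb
  rw [Bool.or_eq_true, Bool.not_eq_true', ← Bool.not_eq_true, Nat.beq_eq, Nat.beq_eq] at hb
  rcases hb with hb | hb
  · exact hb (Nat.mod_eq_zero_of_dvd (h ▸ Nat.mul_dvd_mul_left den h6))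
  · apply h7
    have := Nat.dvd_of_mod_eq_zero hb
    rw [← h] at this
    exact Nat.dvd_of_mul_dvd_mul_left hd this

section Orders

theorem ord_psl {F : Type*} [Field F] [Fintype F] {n q : ℕ} (hF : Fintype.card F = q) (hn : 2 ≤ n) :
    fPSL.den n q * Nat.card (Matrix.ProjectiveSpecialLinearGroup (Fin n) F) = fPSL.num n q := by
  subst hF
  have h := S0243.result (F := F) rfl n hn
  rw [Fin.prod_univ_eq_prod_range (fun i => Fintype.card F ^ n - Fintype.card F ^ i) n, ← prod_list] at h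
  change Nat.gcd n (Fintype.card F - 1) * (Fintype.card F - 1) * _ = glN n (Fintype.card F)
  rw [mul_assoc]
  exact h

theorem ord_sl {F : Type*} [Field F] [Fintype F] {n q : ℕ} (hF : Fintype.card F = q) (hn : 1 ≤ n) :
    (q - 1) * Nat.card (Matrix.SpecialLinearGroup (Fin n) F) = glN n q := by
  subst hF
  have h := S0242.result (F := F) rfl n hn
  rw [Fin.prod_univ_eq_prod_range (fun i => Fintype.card F ^ n - Fintype.card F ^ i) n, ← prod_list] at h
  exact h

theorem ord_sp {F : Type*} [Field F] [Fintype F] {m q : ℕ} (hF : Fintype.card F = q) :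
    Nat.card (Matrix.symplecticGroup (Fin m) F) = q ^ (m ^ 2) * prB q m := by
  subst hF
  rw [S0245.result (F := F) rfl m, ← prod_list (fun i => Fintype.card F ^ (2 * (i + 1)) - 1)]
  rfl

theorem ord_psp {F : Type*} [Field F] [Fintype F] {m q : ℕ} (hF : Fintype.card F = q) (hm : 1 ≤ m) :
    fPSp.den m q * Nat.card (PSp m F) = fPSp.num m q := by
  have h1 := ord_sp (m := m) hF
  subst hF
  have h2 := S0246.result (F := F) rfl m hm
  have h3 := Subgroup.card_eq_card_quotient_mul_card_subgroup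
    (Subgroup.center (Matrix.symplecticGroup (Fin m) F))
  rw [h1, h2] at h3
  change Nat.gcd 2 (Fintype.card F - 1) * Nat.card (PSp m F) = Fintype.card F ^ (m ^ 2) * prB (Fintype.card F) m
  rw [mul_comm]
  exact h3.symm

theorem prU_eq (n q : ℕ) : prU q n = ∏ i ∈ Finset.range n, (if Even i then q ^ (i + 1) + 1 else q ^ (i + 1) - 1) := by
  unfold prU
  rw [prod_list]
  refine Finset.prod_congr rfl fun i _ => ?_
  by_cases hi : Even i
  · rw [if_pos hi, Nat.even_iff.mp hi]; rfl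
  · rw [if_neg hi, Nat.odd_iff.mp (Nat.not_even_iff_odd.mp hi)]; rfl

theorem ord_psu {F : Type*} [Field F] [Fintype F] {n q : ℕ} (hF : Fintype.card F = q ^ 2) (hn : 2 ≤ n) :
    fPSU.den n q * Nat.card (PSU n F q) = fPSU.num n q := by
  have h := S0280.result hF n hn
  rw [← prU_eq] at h
  change Nat.gcd n (q + 1) * (q + 1) * _ = q ^ (n * (n - 1) / 2) * prU q n
  rw [mul_assoc]
  exact h

theorem ord_su {F : Type*} [Field F] [Fintype F] {n q : ℕ} (hF : Fintype.card F = q ^ 2) (hn : 1 ≤ n) :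
    (q + 1) * Nat.card (SU n F q) = q ^ (n * (n - 1) / 2) * prU q n := by
  have h := S0278.result hF n hn
  rwa [← prU_eq] at h

theorem ord_oodd {F : Type*} [Field F] [Fintype F] {m q : ℕ} (hF : Fintype.card F = q) (hodd : Odd q) (hm : 3 ≤ m) :
    fOOdd.den m q * Nat.card (POmega F (quadFormOdd m F)) = fOOdd.num m q := by
  have h := S0292.result hF hodd m hm
  rw [← prod_list (fun i => q ^ (2 * (i + 1)) - 1)] at h
  exact h

theorem ord_oplus {F : Type*} [Field F] [Fintype F] {m q : ℕ} (hF : Fintype.card F = q) (hm : 4 ≤ m) :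
    fOPlus.den m q * Nat.card (POmega F (quadFormPlus m F)) = fOPlus.num m q := by
  have h := S0293.result hF m hm
  rw [← prod_list (fun i => q ^ (2 * (i + 1)) - 1), mul_assoc (q ^ (m * (m - 1)))] at h
  exact h

theorem ord_ominus {F : Type*} [Field F] [Fintype F] {m q : ℕ} (hF : Fintype.card F = q) (hm : 4 ≤ m) {a b : F}
    (hab : ∀ z₁ z₂ : F, z₁ ^ 2 + a * z₁ * z₂ + b * z₂ ^ 2 = 0 → z₁ = 0 ∧ z₂ = 0) :
    fOMinus.den m q * Nat.card (POmega F (quadFormMinus (m - 1) F a b)) = fOMinus.num m q := by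
  have h := S0294.result hF m hm a b hab
  rw [← prod_list (fun i => q ^ (2 * (i + 1)) - 1), mul_assoc (q ^ (m * (m - 1)))] at h
  exact h

end Orders

end Cfsg.Agent.H343
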