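import Cfsg.Agent.H343.Elim6
import Cfsg.Agent.NotResT.TwoRank
import Cfsg.Agent.S0281

/-!
# Elimination for S3338 (helper343)
-/

set_option autoImplicit false
set_option linter.unusedVariables false
set_option linter.unusedSectionVars false

namespace Cfsg.Agent.H343

open Cfsg Cfsg.Agent.OrdDiv Matrix Cfsg.Agent.NotResT.TwoRank

universe u

/-! ### rank one and two in characteristic two -/

theorem pow_two_mod {f : ℕ} (h : 27 ∣ (2 ^ f) ^ 2 - 1) : 513 ∣ 2 ^ f + 1 ∨ 513 ∣ 2 ^ f - 1 := by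
  obtain ⟨g, r, hr, rfl⟩ : ∃ g r, r < 9 ∧ f = 9 * g + r := ⟨f / 9, f % 9, Nat.mod_lt _ (by norm_num), by omega⟩
  have e1 : ∀ g : ℕ, (2 ^ (9 * g)) % 513 = if g % 2 = 0 then 1 else 512 := by
    intro g
    rw [pow_mul]
    induction g with
    | zero => rfl
    | succ g ih =>
      rw [pow_succ, Nat.mul_mod, ih]
      split <;> split <;> omega
  have e2 : (2 ^ (9 * g)) ^ 2 % 27 = 1 := by
    have h1 : 2 ^ (9 * g) % 27 = 1 ∨ 2 ^ (9 * g) % 27 = 26 := by
      have := e1 g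
      split at this
      · left; omega
      · right; omega
    rcases h1 with h1 | h1 <;> rw [Nat.pow_mod, h1]
  have e3 : (2 ^ (9 * g + r)) ^ 2 % 27 = (2 ^ r) ^ 2 % 27 := by
    rw [pow_add, mul_pow, Nat.mul_mod, e2, one_mul, Nat.mod_mod]
  have h0 : 1 ≤ (2 ^ (9 * g + r)) ^ 2 := Nat.one_le_pow _ _ (by positivity)
  have h4 : (2 ^ r) ^ 2 % 27 = 1 := by omega
  have h5 : ∀ r < 9, (2 ^ r) ^ 2 % 27 = 1 → r = 0 := by decide
  have h6 := h5 r hr h4
  subst h6
  rw [add_zero]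
  have := e1 g
  split at this
  · right; omega
  · left; omega

theorem even_isPow {F : Type*} [Field F] [Fintype F] {q : ℕ} (hq : IsPrimePow q) (h : ¬ Odd q) : ∃ f, q = 2 ^ f := by
  obtain ⟨p, k, hp, hk, rfl⟩ := (isPrimePow_nat_iff _).mp hq
  have h1 : 2 ∣ p ^ k := (Nat.not_odd_iff_even.mp h).two_dvd
  have h2 := (Nat.prime_dvd_prime_iff_eq Nat.prime_two hp).mp (Nat.prime_two.dvd_of_dvd_pow h1)
  exact ⟨k, by rw [← h2]⟩

theorem has_sl2_nineteen (F : Type*) [Field F] [Fintype F] {f : ℕ} (hF : Fintype.card F = 2 ^ f)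
    (h : 27 ∣ (2 ^ f) ^ 2 - 1) : Has 19 (SpecialLinearGroup (Fin 2) F) := by
  rcases pow_two_mod h with h1 | h1
  · exact (has_sl2_plus F (by rw [hF]; omega)).of_dvd (by rw [hF]; omega)
  · exact (has_sl2_minus F (by rw [hF]; omega)).of_dvd (by rw [hF]; omega)

theorem nineteen {L : Type*} [Group L] (h : C6 L) (h2 : Has 19 L) : False := by
  have := h.has h2
  revert this
  decide +kernel

theorem eq_zero_of_pow_eq_zero' {F : Type*} [Field F] {a : F} {n : ℕ} (h : a ^ n = 0) : a = 0 := by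
  by_contra h0
  exact pow_ne_zero n h0 h

theorem psl_two_even {F : Type*} [Field F] [Fintype F] {f : ℕ} (hF : Fintype.card F = 2 ^ f)
    (h : C6 (ProjectiveSpecialLinearGroup (Fin 2) F)) : False := by
  have hc : ∀ g ∈ Subgroup.center (SpecialLinearGroup (Fin 2) F), g = 1 := by
    intro g hg
    rw [Matrix.SpecialLinearGroup.mem_center_iff] at hg
    obtain ⟨r, hr, hg⟩ := hg
    have h2 : (2 : F) = 0 := by
      have h5 := Nat.cast_card_eq_zero F
      rw [hF, Nat.cast_pow] at h5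
      have h6 := eq_zero_of_pow_eq_zero' h5
      exact_mod_cast h6
    have h3 : r = 1 := by
      have h4 : (r - 1) ^ 2 = 0 := by
        have h5 : r ^ 2 = 1 := by simpa using hr
        linear_combination h5 + (1 - r) * h2
      exact sub_eq_zero.mp (pow_eq_zero_iff two_ne_zero |>.mp h4)
    apply Subtype.ext
    rw [← hg, h3]
    simp
  have hd : 27 ∣ (2 ^ f) ^ 2 - 1 := by
    have h1 := ord_psl (n := 2) hF le_rfl
    have h2 : Nat.card (ProjectiveSpecialLinearGroup (Fin 2) F) ∣ 2 ^ f * ((2 ^ f) ^ 2 - 1) := by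
      rw [← card_SL_two hF]
      exact Subgroup.card_quotient_dvd_card _
    have h3 : 27 ∣ 2 ^ f * ((2 ^ f) ^ 2 - 1) := ((Dvd.intro_left (3 ^ 3) (by norm_num)).trans h.d6).trans h2
    exact (Nat.Coprime.dvd_of_dvd_mul_left (Nat.Coprime.pow_right f (by norm_num)) h3)
  refine nineteen h ((has_sl2_nineteen F hF hd).of_injective (QuotientGroup.mk' _) ?_)
  rw [injective_iff_map_eq_one]
  intro g hg
  exact hc g ((QuotientGroup.eq_one_iff g).mp hg)

theorem mod_729 : ∀ r < 729, (r ^ 2 + 728) * (r ^ 3 + 728) % 729 = 0 → r % 3 = 0 ∨ (r ^ 2 + 26) % 27 = 0 := by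
  decide +kernel

theorem mod_729' : ∀ r < 729, (r ^ 2 + 728) * (r ^ 3 + 1) % 729 = 0 → r % 3 = 0 ∨ (r ^ 2 + 26) % 27 = 0 := by
  decide +kernel

theorem dvd_27 {q : ℕ} (hq : 1 ≤ q) (h3 : ¬ 3 ∣ q) (h : 729 ∣ (q ^ 2 - 1) * (q ^ 3 - 1)) : 27 ∣ q ^ 2 - 1 := by
  have hq2 : 1 ≤ q ^ 2 := Nat.one_le_pow _ _ hq
  have hq3 : 1 ≤ q ^ 3 := Nat.one_le_pow _ _ hq
  have e1 : (q ^ 2 + 728) * (q ^ 3 + 728) ≡ 0 [MOD 729] := by
    have a1 : (q ^ 2 + 728) ≡ (q ^ 2 - 1) [MOD 729] := by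
      have : q ^ 2 + 728 = (q ^ 2 - 1) + 729 := by omega
      rw [this]; exact Nat.add_modEq_right
    have a2 : (q ^ 3 + 728) ≡ (q ^ 3 - 1) [MOD 729] := by
      have : q ^ 3 + 728 = (q ^ 3 - 1) + 729 := by omega
      rw [this]; exact Nat.add_modEq_right
    exact (a1.mul a2).trans ((Nat.modEq_zero_iff_dvd).mpr h)
  have e2 : ((q % 729) ^ 2 + 728) * ((q % 729) ^ 3 + 728) % 729 = 0 := by
    have a1 : q % 729 ≡ q [MOD 729] := Nat.mod_modEq _ _
    exact (((a1.pow 2).add_right _).mul ((a1.pow 3).add_right _)).trans e1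
  rcases mod_729 (q % 729) (Nat.mod_lt _ (by norm_num)) e2 with h4 | h4
  · exact absurd (Nat.dvd_of_mod_eq_zero (show q % 3 = 0 by omega)) h3
  · have a1 : q % 729 ≡ q [MOD 27] := by
      show q % 729 % 27 = q % 27
      exact Nat.mod_mod_of_dvd q (by norm_num)
    have a2 : q ^ 2 + 26 ≡ 0 [MOD 27] := ((a1.pow 2).add_right 26).symm.trans h4
    have a3 := (Nat.modEq_zero_iff_dvd).mp a2
    omega

theorem dvd_27' {q : ℕ} (hq : 1 ≤ q) (h3 : ¬ 3 ∣ q) (h : 729 ∣ (q ^ 2 - 1) * (q ^ 3 + 1)) : 27 ∣ q ^ 2 - 1 := by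
  have hq2 : 1 ≤ q ^ 2 := Nat.one_le_pow _ _ hq
  have e1 : (q ^ 2 + 728) * (q ^ 3 + 1) ≡ 0 [MOD 729] := by
    have a1 : (q ^ 2 + 728) ≡ (q ^ 2 - 1) [MOD 729] := by
      have : q ^ 2 + 728 = (q ^ 2 - 1) + 729 := by omega
      rw [this]; exact Nat.add_modEq_right
    exact (a1.mul_right _).trans ((Nat.modEq_zero_iff_dvd).mpr h)
  have e2 : ((q % 729) ^ 2 + 728) * ((q % 729) ^ 3 + 1) % 729 = 0 := by
    have a1 : q % 729 ≡ q [MOD 729] := Nat.mod_modEq _ _
    exact (((a1.pow 2).add_right _).mul ((a1.pow 3).add_right _)).trans e1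
  rcases mod_729' (q % 729) (Nat.mod_lt _ (by norm_num)) e2 with h4 | h4
  · exact absurd (Nat.dvd_of_mod_eq_zero (show q % 3 = 0 by omega)) h3
  · have a1 : q % 729 ≡ q [MOD 27] := by
      show q % 729 % 27 = q % 27
      exact Nat.mod_mod_of_dvd q (by norm_num)
    have a2 : q ^ 2 + 26 ≡ 0 [MOD 27] := ((a1.pow 2).add_right 26).symm.trans h4
    have a3 := (Nat.modEq_zero_iff_dvd).mp a2
    omega

theorem psl_three_even {F : Type*} [Field F] [Fintype F] {f : ℕ} (hF : Fintype.card F = 2 ^ f)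
    (h : C6 (ProjectiveSpecialLinearGroup (Fin 3) F)) : False := by
  have hd : 27 ∣ (2 ^ f) ^ 2 - 1 := by
    have h1 := ord_psl (n := 3) hF (by norm_num)
    have hq1 : 1 < 2 ^ f := hF ▸ Fintype.one_lt_card
    generalize hq : 2 ^ f = q at *
    have h3 : ¬ 3 ∣ q := by
      rw [← hq]; intro h3
      have := Nat.prime_three.dvd_of_dvd_pow h3
      omega
    apply dvd_27 (by omega) h3
    have h2 : glN 3 q = (q - 1) * (q ^ 3 * ((q ^ 2 - 1) * (q ^ 3 - 1))) := by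
      have e0 : glN 3 q = (q ^ 3 - q ^ 0) * ((q ^ 3 - q ^ 1) * ((q ^ 3 - q ^ 2) * 1)) := rfl
      have e1 : q ^ 3 - q ^ 1 = q * (q ^ 2 - 1) := by rw [Nat.mul_sub, mul_one]; congr 1 <;> ring
      have e2 : q ^ 3 - q ^ 2 = q ^ 2 * (q - 1) := by rw [Nat.mul_sub, mul_one]; congr 1 <;> ring
      rw [e0, e1, e2, pow_zero]; ring
    have h4 : Nat.gcd 3 (q - 1) * Nat.card (ProjectiveSpecialLinearGroup (Fin 3) F) =
        q ^ 3 * ((q ^ 2 - 1) * (q ^ 3 - 1)) := by
      have h5 : Nat.gcd 3 (q - 1) * (q - 1) * Nat.card (ProjectiveSpecialLinearGroup (Fin 3) F) = glN 3 q := h1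
      rw [h2] at h5
      apply Nat.eq_of_mul_eq_mul_left (show 0 < q - 1 by omega)
      rw [← h5]; ring
    have h6 : 729 ∣ q ^ 3 * ((q ^ 2 - 1) * (q ^ 3 - 1)) := by
      rw [← h4]
      exact (show 729 ∣ _ from h.d6).mul_left _
    exact (Nat.Coprime.dvd_of_dvd_mul_left (Nat.Coprime.pow_right 3
      (Nat.Coprime.pow_left 6 ((Nat.Prime.coprime_iff_not_dvd Nat.prime_three).mpr h3))) h6)
  have hp := (pslPair F (k := 2) (l := 1) (by norm_num) (by norm_num)).hf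
  exact nineteen h ((has_sl2_nineteen F hF hd).of_injective _ hp)

theorem psu_three_even {F : Type*} [Field F] [Fintype F] {f : ℕ} (hF : Fintype.card F = (2 ^ f) ^ 2)
    (h : C6 (PSU 3 F (2 ^ f))) : False := by
  have hf : f ≠ 0 := by
    rintro rfl
    have := Fintype.one_lt_card (α := F)
    rw [hF] at this
    norm_num at this
  have hd : 27 ∣ (2 ^ f) ^ 2 - 1 := by
    have h1 := ord_psu (n := 3) hF (by norm_num)
    have hq1 : 1 < 2 ^ f := Nat.one_lt_two_pow hf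
    have h := h.d6
    generalize hq : 2 ^ f = q at *
    have h3 : ¬ 3 ∣ q := by
      rw [← hq]; intro h3
      have := Nat.prime_three.dvd_of_dvd_pow h3
      omega
    apply dvd_27' (by omega) h3
    have h2 : fPSU.num 3 q = (q + 1) * (q ^ 3 * ((q ^ 2 - 1) * (q ^ 3 + 1))) := by
      have e0 : fPSU.num 3 q = q ^ 3 * ((q ^ 1 + 1) * ((q ^ 2 - 1) * ((q ^ 3 + 1) * 1))) := rfl
      rw [e0]; ring
    have h4 : Nat.gcd 3 (q + 1) * Nat.card (PSU 3 F q) =
        q ^ 3 * ((q ^ 2 - 1) * (q ^ 3 + 1)) := by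
      have h5 : Nat.gcd 3 (q + 1) * (q + 1) * Nat.card (PSU 3 F q) = fPSU.num 3 q := h1
      rw [h2] at h5
      apply Nat.eq_of_mul_eq_mul_left (show 0 < q + 1 by omega)
      rw [← h5]; ring
    have h6 : 729 ∣ q ^ 3 * ((q ^ 2 - 1) * (q ^ 3 + 1)) := by
      rw [← h4]
      exact (show 729 ∣ _ from h).mul_left _
    exact (Nat.Coprime.dvd_of_dvd_mul_left (Nat.Coprime.pow_right 3
      (Nat.Coprime.pow_left 6 ((Nat.Prime.coprime_iff_not_dvd Nat.prime_three).mpr h3))) h6)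
  let _ : Fintype (GaloisField 2 f) := Fintype.ofFinite _
  have hK : Fintype.card (GaloisField 2 f) = 2 ^ f := by
    rw [← Nat.card_eq_fintype_card, GaloisField.card 2 f hf]
  obtain ⟨e⟩ := Cfsg.Agent.S0281.result hF hK
  have hp := (psuPair hF (k := 2) (l := 1) (by norm_num) (by norm_num) (by norm_num)).hf
  exact nineteen h (((has_sl2_nineteen _ hK hd).equiv e).of_injective _ hp)

/-! ### the theorem -/

/-- `den * c = num` and `D ∣ c` -/
theorem kill_D {den num c D : ℕ} (h : den * c = num) (hD : D ∣ c) (hb : num % (den * D) ≠ 0) : False :=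
  hb (Nat.mod_eq_zero_of_dvd (h ▸ Nat.mul_dvd_mul_left den hD))

/-- **the elimination for S3338** -/
theorem elim338 (T : OrderTable.{u}) {L : Type u} [Group L] (hK : IsKnownSimple' L) (h : C6 L)
    (hd : 2 ^ 35 * 5 * 7 * 11 ∣ Nat.card L) (hr : ¬ PRankLE 2 2 L) : False := by
  rcases elim6 T hK h with ⟨q, h1 | h1 | h1⟩ | ⟨g, hg, h1⟩
  · obtain ⟨F, _, _, hF, ⟨e⟩⟩ := h1
    by_cases ho : Odd q
    · exact hr (prank_congr e (prank_psl_two (by rw [hF]; exact ho)))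
    · obtain ⟨f, rfl⟩ := even_isPow (F := F) (hF ▸ Fintype.isPrimePow_card_of_field) ho
      exact psl_two_even hF (h.equiv e)
  · obtain ⟨F, _, _, hF, ⟨e⟩⟩ := h1
    by_cases ho : Odd q
    · exact hr (prank_congr e (prank_psl_three (by rw [hF]; exact ho)))
    · obtain ⟨f, rfl⟩ := even_isPow (F := F) (hF ▸ Fintype.isPrimePow_card_of_field) ho
      exact psl_three_even hF (h.equiv e)
  · obtain ⟨F, _, _, hF, ⟨e⟩⟩ := h1
    by_cases ho : Odd q
    · exact hr (prank_congr e (prank_psu_three hF ho))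
    · obtain ⟨f, rfl⟩ := even_isPow (F := F) (isPrimePow_of_sq hF) ho
      exact psu_three_even hF (h.equiv e)
  · have f4 : ∀ q, Real (.f4 q) L → 1 * Nat.card L = fF4.num 0 q := by
      rintro q ⟨F, _, _, hF, ⟨e⟩⟩
      rw [Nat.card_congr e.toEquiv, one_mul, T.f4 F _ hF]
      change _ = q ^ 24 * ((q ^ 2 - 1) * (q ^ 6 - 1) * (q ^ 8 - 1) * (q ^ 12 - 1))
      ring
    have e6 : ∀ q, Real (.e6 q) L → fE6.den 0 q * Nat.card L = fE6.num 0 q := by
      rintro q ⟨F, _, _, hF, ⟨e⟩⟩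
      rw [Nat.card_congr e.toEquiv]
      change Nat.gcd 3 (q - 1) * _ = q ^ 36 * ((q ^ 2 - 1) *
        (q ^ 5 - 1) * (q ^ 6 - 1) * (q ^ 8 - 1) * (q ^ 9 - 1) * (q ^ 12 - 1))
      rw [T.e6 F _ hF]
      ring
    have te6 : ∀ q, IsPrimePow q → Real (.te6 q) L → fTE6.den 0 q * Nat.card L = fTE6.num 0 q := by
      rintro q hq ⟨F, _, _, hF, ⟨e⟩⟩
      rw [Nat.card_congr e.toEquiv]
      change Nat.gcd 3 (q + 1) * _ = q ^ 36 * ((q ^ 2 - 1) * (q ^ 5 + 1) * (q ^ 6 - 1) * (q ^ 8 - 1) * (q ^ 9 + 1) *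
          (q ^ 12 - 1))
      rw [T.te6 F q hq hF]
      ring
    have sp : ∀ g o, (g, o) ∈ spor → Real g L → 1 * Nat.card L = o := by
      intro g o hg hr
      rw [one_mul]
      exact T.spor L (g, o) hg hr
    simp only [surv6, List.mem_cons, List.not_mem_nil, or_false] at hg
    rcases hg with rfl | rfl | rfl | rfl | rfl | rfl | rfl | rfl | rfl | rfl | rfl | rfl | rfl | rfl | rfl | rfl | rfl | rfl
    · obtain ⟨F, _, _, hF, ⟨e⟩⟩ := h1
      rw [Nat.card_congr e.toEquiv] at hd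
      exact kill_D (ord_psl hF (by norm_num)) hd (by decide +kernel)
    · obtain ⟨F, _, _, hF, ⟨e⟩⟩ := h1
      rw [Nat.card_congr e.toEquiv] at hd
      exact kill_D (ord_psu hF (by norm_num)) hd (by decide +kernel)
    · obtain ⟨F, _, _, hF, ⟨e⟩⟩ := h1
      rw [Nat.card_congr e.toEquiv] at hd
      exact kill_D (ord_psu hF (by norm_num)) hd (by decide +kernel)
    · obtain ⟨F, _, _, a, b, hF, hab, ⟨e⟩⟩ := h1
      rw [Nat.card_congr e.toEquiv] at hd
      exact kill_D (ord_ominus hF (by norm_num) hab) hd (by decide +kernel)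
    · obtain ⟨F, _, _, hF, ⟨e⟩⟩ := h1
      rw [Nat.card_congr e.toEquiv, T.g2 F, hF] at hd
      revert hd
      decide +kernel
    · exact kill_D (f4 _ h1) hd (by decide +kernel)
    · exact kill_D (f4 _ h1) hd (by decide +kernel)
    · exact kill_D (f4 _ h1) hd (by decide +kernel)
    · exact kill_D (f4 _ h1) hd (by decide +kernel)
    · exact kill_D (f4 _ h1) hd (by decide +kernel)
    · exact kill_D (e6 _ h1) hd (by decide +kernel)
    · exact kill_D (e6 _ h1) hd (by decide +kernel)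
    · exact kill_D (e6 _ h1) hd (by decide +kernel)
    · exact kill_D (te6 4 ((isPrimePow_nat_iff _).mpr ⟨2, 2, Nat.prime_two, by norm_num, rfl⟩) h1) hd (by decide +kernel)
    · exact kill_D (te6 7 ((isPrimePow_nat_iff _).mpr ⟨7, 1, by norm_num, by norm_num, rfl⟩) h1) hd (by decide +kernel)
    · exact kill_D (sp .mcl 898128000 (by decide) h1) hd (by decide +kernel)
    · exact kill_D (sp .co2 42305421312000 (by decide) h1) hd (by decide +kernel)
    · exact kill_D (sp .hn 273030912000000 (by decide) h1) hd (by decide +kernel)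

end Cfsg.Agent.H343
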