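import Cfsg.Agent.H343.WitExc
import Cfsg.Agent.ChevalleyStructure.D4U

/-!
# Triality groups: the centralizer of an element of order 3 of a long root `SL_2(q)` (helper343)
-/

set_option autoImplicit false
set_option linter.unusedSectionVars false
set_option linter.unusedVariables false

namespace Cfsg.Agent.H343

open Cfsg Cfsg.Lie Subgroup
open Cfsg.Agent.ChevalleyStructure
open Cfsg.Agent.ETable.Exc
open Cfsg.Agent.ChevalleyStructure.SL2Hom (up lo)

namespace Tri

open Cfsg.Agent.ChevalleyStructure.D4NCheck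
open Cfsg.Agent.ChevalleyStructure.D4NConj (nG nG_conj)
open Cfsg.Agent.ChevalleyStructure.D4Comm (xG)

universe u
variable {K : Type u} [Field K] {q : ℕ} {φ : K →+* K}

theorem step {i s : ℕ} (hi : i < 4) (hs : s < 24) {t : K} (ht : φ t = t) :
    ∃ u : K, φ u = u ∧ nG K i * xG s t * (nG K i)⁻¹ = xG (rfl' i s) u := by
  refine ⟨(eta i s : K) * t, ?_, nG_conj hi hs t⟩
  rw [map_mul, map_intCast, ht]

theorem step_na {s : ℕ} (hs : s < 24) {t : K} (ht : φ t = t) :
    ∃ u : K, φ u = u ∧ D4U.na K * xG s t * (D4U.na K)⁻¹ = xG (rfl' 1 s) u := step (by norm_num) hs ht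

theorem step_nb {s : ℕ} (hs : s < 24) {t : K} (ht : φ t = t) :
    ∃ u : K, φ u = u ∧ D4U.nb K * xG s t * (D4U.nb K)⁻¹ = xG (D4U.rb s) u := by
  have h3 := D4NConj.rfl'_lt (i := 3) (by norm_num) hs
  have h2 := D4NConj.rfl'_lt (i := 2) (by norm_num) h3
  obtain ⟨u, hu, e1⟩ := step (φ := φ) (i := 3) (by norm_num) hs ht
  obtain ⟨v, hv, e2⟩ := step (φ := φ) (i := 2) (by norm_num) h3 hu
  obtain ⟨w, hw, e3⟩ := step (φ := φ) (i := 0) (by norm_num) h2 hv
  refine ⟨w, hw, ?_⟩
  have e : D4U.nb K * xG s t * (D4U.nb K)⁻¹ =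
      nG K 0 * (nG K 2 * (nG K 3 * xG s t * (nG K 3)⁻¹) * (nG K 2)⁻¹) * (nG K 0)⁻¹ := by
    unfold D4U.nb
    group
  rw [e, e1, e2, e3]
  rfl

theorem mem_23 (hφ : ∀ x, φ x = x ^ q) {t : K} (ht : φ t = t) : xG 23 t ∈ twistedD4 K q := by
  obtain ⟨u, hu, e1⟩ := step_na (φ := φ) (s := 23) (by norm_num) ht
  refine D4U.mem_of_conj (D4U.na_mem hφ) ?_
  rw [e1, show rfl' 1 23 = 22 by decide +kernel]
  obtain ⟨v, hv, e2⟩ := step_nb (φ := φ) (s := 22) (by norm_num) hu
  refine D4U.mem_of_conj (D4U.nb_mem hφ) ?_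
  rw [e2, show D4U.rb 22 = 14 by decide +kernel, ← D4U.xU_eq]
  exact D4Fixed.x14_mem ((hφ v).symm.trans hv)

theorem mem_0 (hφ : ∀ x, φ x = x ^ q) {t : K} (ht : φ t = t) : xG 0 t ∈ twistedD4 K q := by
  obtain ⟨u, hu, e1⟩ := step_na (φ := φ) (s := 0) (by norm_num) ht
  refine D4U.mem_of_conj (D4U.na_mem hφ) ?_
  rw [e1, show rfl' 1 0 = 1 by decide +kernel]
  obtain ⟨v, hv, e2⟩ := step_nb (φ := φ) (s := 1) (by norm_num) hu
  refine D4U.mem_of_conj (D4U.nb_mem hφ) ?_
  rw [e2, show D4U.rb 1 = 9 by decide +kernel, ← D4U.xU_eq]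
  exact D4Fixed.x9_mem ((hφ v).symm.trans hv)

theorem xG_eq' (hD : Elts.InList chevD4) (r : ℕ) (t : K) : Elts.xG hD r t = xG r t := Units.ext rfl

/-- an element commuting with everything modulo `± 1` -/
theorem eq_one_or_of_comm {g : Matrix.SpecialLinearGroup (Fin 2) K}
    (h : ∀ x : Matrix.SpecialLinearGroup (Fin 2) K, g * x * g⁻¹ * x⁻¹ = 1 ∨ g * x * g⁻¹ * x⁻¹ = -1) :
    g = 1 ∨ g = -1 := by
  have h' : ∀ x : Matrix.SpecialLinearGroup (Fin 2) K, ∃ e : K, (g * x * g⁻¹).1 = e • x.1 := by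
    intro x
    rcases h x with h | h
    · refine ⟨1, ?_⟩
      rw [mul_inv_eq_one] at h
      rw [h, one_smul]
    · refine ⟨-1, ?_⟩
      rw [mul_inv_eq_iff_eq_mul] at h
      rw [h]
      simp
  have hinv : (g⁻¹).1 = !![g.1 1 1, - g.1 0 1; - g.1 1 0, g.1 0 0] := by
    rw [Matrix.SpecialLinearGroup.coe_inv, Matrix.adjugate_fin_two]
  have hmul : ∀ x : Matrix.SpecialLinearGroup (Fin 2) K, (g * x * g⁻¹).1 =
      g.1 * x.1 * !![g.1 1 1, - g.1 0 1; - g.1 1 0, g.1 0 0] := by
    intro x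
    rw [Matrix.SpecialLinearGroup.coe_mul, Matrix.SpecialLinearGroup.coe_mul, hinv]
  have hdet : g.1 0 0 * g.1 1 1 - g.1 0 1 * g.1 1 0 = 1 := by
    have := g.2
    rwa [Matrix.det_fin_two] at this
  obtain ⟨e, he⟩ := h' (up 1)
  rw [hmul] at he
  have u10 := congrFun (congrFun he 1) 0
  have u00 := congrFun (congrFun he 0) 0
  have u11 := congrFun (congrFun he 1) 1
  have u01 := congrFun (congrFun he 0) 1
  obtain ⟨f, hf⟩ := h' (lo 1)
  rw [hmul] at hf
  have l01 := congrFun (congrFun hf 0) 1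
  simp only [Matrix.mul_apply, Fin.sum_univ_two, Matrix.smul_apply, smul_eq_mul] at u10 u00 u11 u01 l01
  simp [up, lo] at u10 u00 u11 u01 l01
  have g10 : g.1 1 0 = 0 := by
    have : g.1 1 0 * g.1 1 0 = 0 := by linear_combination -u10
    exact mul_self_eq_zero.mp this
  have g01 : g.1 0 1 = 0 := by
    have : g.1 0 1 * g.1 0 1 = 0 := by linear_combination -l01
    exact mul_self_eq_zero.mp this
  simp only [g10, g01] at hdet u00 u01
  simp at u00 u01 hdet
  have e1 : e = 1 := u00.symm.trans hdet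
  have a2 : g.1 0 0 ^ 2 = 1 := by rw [e1] at u01; linear_combination u01
  rcases sq_eq_one_iff_of_ne_neg_one' a2 with h0 | h0
  · left
    have h5 : g.1 1 1 = 1 := by rw [h0, one_mul] at hdet; exact hdet
    apply Subtype.ext
    ext a b
    fin_cases a <;> fin_cases b
    · simpa using h0
    · simpa using g01
    · simpa using g10
    · simpa using h5
  · right
    have h5 : g.1 1 1 = -1 := by rw [h0] at hdet; linear_combination -hdet
    apply Subtype.ext
    ext a b
    fin_cases a <;> fin_cases b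
    · simpa using h0
    · simpa using g01
    · simpa using g10
    · simpa using h5

section

variable (φ)

theorem rootHom₀_comm {P P' : Type*} [Field P] [Field P'] (c : P →+* K) (c' : P' →+* K) {r s : ℕ}
    (hr : r < chevD4.nroots) (hs : s < chevD4.nroots) (hrs : SO chevD4 r s)
    (a : Matrix.SpecialLinearGroup (Fin 2) P) (b : Matrix.SpecialLinearGroup (Fin 2) P') :
    rootHom₀ inList_D4 c hr a * rootHom₀ inList_D4 c' hs b = rootHom₀ inList_D4 c' hs b * rootHom₀ inList_D4 c hr a := by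
  refine closure_comm _ _ (closure_gens P) (closure_gens P') ?_ a b
  intro a ha b hb
  obtain ⟨h1, h2, h3, h4⟩ := hrs
  rcases ha with ⟨t, rfl⟩ | ⟨t, rfl⟩ <;> rcases hb with ⟨u, rfl⟩ | ⟨u, rfl⟩
  · rw [rootHom₀_up, rootHom₀_up]; exact comm_of_so inList_D4 h1 _ _
  · rw [rootHom₀_up, rootHom₀_lo]; exact comm_of_so inList_D4 h2 _ _
  · rw [rootHom₀_lo, rootHom₀_up]; exact comm_of_so inList_D4 h3 _ _
  · rw [rootHom₀_lo, rootHom₀_lo]; exact comm_of_so inList_D4 h4 _ _

theorem l18 : 18 < chevD4.nroots := by decide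
theorem l13 : 13 < chevD4.nroots := by decide
theorem l12 : 12 < chevD4.nroots := by decide
theorem l23 : 23 < chevD4.nroots := by decide

theorem so_18_13 : SO chevD4 18 13 := by decide +kernel
theorem so_18_12 : SO chevD4 18 12 := by decide +kernel
theorem so_13_12 : SO chevD4 13 12 := by decide +kernel
theorem so_23_18 : SO chevD4 23 18 := by decide +kernel
theorem so_23_13 : SO chevD4 23 13 := by decide +kernel
theorem so_23_12 : SO chevD4 23 12 := by decide +kernel

/-- the short root homomorphism -/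
noncomputable def sh (g : Matrix.SpecialLinearGroup (Fin 2) K) : GL chevD4.Idx K :=
  rootHom₀ inList_D4 (RingHom.id K) l18 g * (rootHom₀ inList_D4 φ l13 g * rootHom₀ inList_D4 (φ.comp φ) l12 g)

/-- the short root homomorphism -/
noncomputable def shHom : Matrix.SpecialLinearGroup (Fin 2) K →* GL chevD4.Idx K :=
  MonoidHom.mk' (sh φ) (by
    intro g h
    unfold sh
    simp only [map_mul]
    have e1 := rootHom₀_comm (RingHom.id K) φ l18 l13 so_18_13 h g
    have e2 := rootHom₀_comm (RingHom.id K) (φ.comp φ) l18 l12 so_18_12 h g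
    have e3 := rootHom₀_comm φ (φ.comp φ) l13 l12 so_13_12 h g
    generalize rootHom₀ inList_D4 (RingHom.id K) l18 g = A at *
    generalize rootHom₀ inList_D4 (RingHom.id K) l18 h = A' at *
    generalize rootHom₀ inList_D4 φ l13 g = B at *
    generalize rootHom₀ inList_D4 φ l13 h = B' at *
    generalize rootHom₀ inList_D4 (φ.comp φ) l12 g = D at *
    generalize rootHom₀ inList_D4 (φ.comp φ) l12 h = D' at *
    calc A * A' * (B * B' * (D * D')) = A * (A' * B) * (B' * D) * D' := by simp only [mul_assoc]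
      _ = A * (B * A') * (D * B') * D' := by rw [e1, e3]
      _ = A * B * (A' * D) * B' * D' := by simp only [mul_assoc]
      _ = A * B * (D * A') * B' * D' := by rw [e2]
      _ = A * (B * D) * (A' * (B' * D')) := by simp only [mul_assoc])

theorem shHom_apply (g : Matrix.SpecialLinearGroup (Fin 2) K) : shHom φ g = sh φ g := rfl

theorem shHom_ker {g : Matrix.SpecialLinearGroup (Fin 2) K} (h : shHom φ g = 1) : g = 1 ∨ g = -1 := by
  have h1 : rootHom₀ inList_D4 (RingHom.id K) l18 g =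
      (rootHom₀ inList_D4 φ l13 g * rootHom₀ inList_D4 (φ.comp φ) l12 g)⁻¹ := by
    rw [shHom_apply, sh, mul_eq_one_iff_eq_inv] at h
    exact h
  apply eq_one_or_of_comm
  intro x
  have hR : RootIn inList_D4 (RingHom.id K) (⊤ : Subgroup (GL chevD4.Idx K)) 18 :=
    ⟨l18, fun _ => trivial, fun _ => trivial⟩
  refine hR.ker (Subtype.ext ?_)
  change rootHom₀ inList_D4 (RingHom.id K) l18 (g * x * g⁻¹ * x⁻¹) = 1
  have e1 := rootHom₀_comm (RingHom.id K) φ l18 l13 so_18_13 x g
  have e2 := rootHom₀_comm (RingHom.id K) (φ.comp φ) l18 l12 so_18_12 x g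
  have c1 : Commute (rootHom₀ inList_D4 (RingHom.id K) l18 x) (rootHom₀ inList_D4 φ l13 g) := e1
  have c2 : Commute (rootHom₀ inList_D4 (RingHom.id K) l18 x) (rootHom₀ inList_D4 (φ.comp φ) l12 g) := e2
  have c3 : Commute (rootHom₀ inList_D4 (RingHom.id K) l18 x) (rootHom₀ inList_D4 (RingHom.id K) l18 g) := by
    rw [h1]
    exact (c1.mul_right c2).inv_right
  rw [map_mul, map_mul, map_mul, map_inv, map_inv, mul_inv_eq_one, mul_inv_eq_iff_eq_mul, c3.eq]

end

theorem shHom_mem (hφ : ∀ x, φ x = x ^ q) (g : Matrix.SpecialLinearGroup (Fin 2) K) : shHom φ g ∈ twistedD4 K q := by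
  have hg : g ∈ Subgroup.closure (gens K) := by rw [closure_gens]; trivial
  induction hg using Subgroup.closure_induction with
  | mem x hx =>
    rcases hx with ⟨t, rfl⟩ | ⟨t, rfl⟩
    · have h := D4Fixed.X_mem (q := q) hφ t
      have e : shHom φ (up t) = D4Fixed.X φ t := by
        rw [shHom_apply, sh, rootHom₀_up, rootHom₀_up, rootHom₀_up, xG_eq', xG_eq', xG_eq', D4Fixed.X,
          D4U.xU_eq, D4U.xU_eq, D4U.xU_eq, mul_assoc]
        rfl
      rw [e]; exact h
    · have h := D4Fixed.Y_mem (q := q) hφ t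
      have e : shHom φ (lo t) = D4Fixed.Y φ t := by
        rw [shHom_apply, sh, rootHom₀_lo, rootHom₀_lo, rootHom₀_lo, xG_eq', xG_eq', xG_eq', D4Fixed.Y,
          D4U.xU_eq, D4U.xU_eq, D4U.xU_eq, mul_assoc, D4NConj.neg_eq (by norm_num), D4NConj.neg_eq (by norm_num),
          D4NConj.neg_eq (by norm_num)]
        rfl
      rw [e]; exact h
  | one => rw [map_one]; exact Subgroup.one_mem _
  | mul x y _ _ hx hy => rw [map_mul]; exact Subgroup.mul_mem _ hx hy
  | inv x _ hx => rw [map_inv]; exact Subgroup.inv_mem _ hx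

end Tri

/-- **`³D₄(q)`**: the centralizer of an element of order 3 of a long root `SL_2(q)` contains a short root `SL_2(q³)` -/
theorem has2_twd4 (K : Type*) [Field K] [Fintype K] {q : ℕ} (hq : IsPrimePow q) (hK : Fintype.card K = q ^ 3) :
    Has2 (Nat.card (Matrix.SpecialLinearGroup (Fin 2) K)) (twistedD4 K q) := by
  obtain ⟨φ, hφ⟩ := Cfsg.Agent.ChevalleyStructure.D4Fixed.exists_frob (K := K) hq hK
  obtain ⟨k, _, _, ι, hk, hι⟩ := exists_subfield K hq three_ne_zero hK
  have hφι : ∀ t, φ (ι t) = ι t := fun t => by rw [hφ, hι]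
  have hR : RootIn inList_D4 ι (twistedD4 K q) 23 :=
    ⟨Tri.l23, fun t => by rw [Tri.xG_eq']; exact Tri.mem_23 hφ (hφι t),
      fun t => by
        rw [Tri.xG_eq', D4NConj.neg_eq (by norm_num)]; exact Tri.mem_0 hφ (hφι t)⟩
  obtain ⟨a, ha⟩ := exists_sl2_three k
  let g : Matrix.SpecialLinearGroup (Fin 2) K →* twistedD4 K q :=
    (Tri.shHom φ).codRestrict (twistedD4 K q) (Tri.shHom_mem hφ)
  refine ⟨hR.hom a, orderOf_hom hR.hom (fun _ => hR.ker) ha, card_dvd_two_mul g ?_ _ ?_⟩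
  · intro x hx
    exact Tri.shHom_ker φ (congrArg Subtype.val hx)
  · intro b
    apply Subtype.ext
    change rootHom₀ inList_D4 ι hR.lt a * Tri.sh φ b = Tri.sh φ b * rootHom₀ inList_D4 ι hR.lt a
    have c1 : Commute (rootHom₀ inList_D4 ι hR.lt a) (rootHom₀ inList_D4 (RingHom.id K) Tri.l18 b) :=
      Tri.rootHom₀_comm ι (RingHom.id K) _ _ Tri.so_23_18 a b
    have c2 : Commute (rootHom₀ inList_D4 ι hR.lt a) (rootHom₀ inList_D4 φ Tri.l13 b) :=
      Tri.rootHom₀_comm ι φ _ _ Tri.so_23_13 a b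
    have c3 : Commute (rootHom₀ inList_D4 ι hR.lt a) (rootHom₀ inList_D4 (φ.comp φ) Tri.l12 b) :=
      Tri.rootHom₀_comm ι (φ.comp φ) _ _ Tri.so_23_12 a b
    exact (c1.mul_right (c2.mul_right c3)).eq

end Cfsg.Agent.H343
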