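import Cfsg.Agent.H343.Red338
import Cfsg.Agent.S0283

/-!
# S3338 (helper343): a group `2^20 : U6(2)(:2)` is not strongly 3-embedded
-/

set_option autoImplicit false
open Cfsg

namespace Cfsg.Agent.H343.M338

open Cfsg.Agent.H343

universe u

theorem card_psu {F : Type*} [Field F] [Fintype F] (hF : Fintype.card F = 4) : Nat.card (PSU 6 F 2) = 9196830720 := by
  have h := ord_psu (F := F) (n := 6) (q := 2) (by rw [hF]; norm_num) (by norm_num)
  have h2 : OrdDiv.fPSU.den 6 2 = 9 := by decide +kernel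
  have h3 : OrdDiv.fPSU.num 6 2 = 9 * 9196830720 := by decide +kernel
  rw [h2, h3] at h
  exact Nat.eq_of_mul_eq_mul_left (by norm_num) h

theorem exists_V {F : Type*} [Field F] [Fintype F] (hF : Fintype.card F = 4) :
    ∃ V : Subgroup (PSU 6 F 2), IsMulCommutative V ∧ ¬ IsCyclic V ∧ ∀ v ∈ V, v ^ 3 = 1 := by
  have hF2 : Fintype.card F = 2 ^ 2 := by rw [hF]; norm_num
  let P := psuPair (F := F) (q := 2) hF2 (k := 2) (l := 4) (by norm_num) (by norm_num) (by norm_num)
  obtain ⟨a, ha⟩ := exists_su2_three hF2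
  obtain ⟨b', hb'⟩ := exists_su2_three hF2
  set b : SU 4 F 2 := Phan.ext hF2 (Fin.castLE (by norm_num : 2 ≤ 4)) (Fin.castLE_injective _) b' with hbdef
  have hb : orderOf b = 3 := by rw [hbdef, orderOf_injective _ (Phan.ext_injective hF2 _), hb']
  have hu : orderOf (P.f a) = 3 := by rw [orderOf_injective _ P.hf, ha]
  have hv : orderOf (P.g b) = 3 := by rw [orderOf_injective _ P.hg, hb]
  have huv : P.f a * P.g b = P.g b * P.f a := P.comm a b
  have hnot : P.g b ∉ Subgroup.zpowers (P.f a) := by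
    rintro ⟨i, hi⟩
    have h1 : b ∈ Subgroup.center (SU 4 F 2) := by
      rw [Subgroup.mem_center_iff]
      intro g
      apply P.hg
      rw [map_mul, map_mul, ← hi]
      have h2 : P.f a ^ i = P.f (a ^ i) := by rw [map_zpow]
      change P.g g * P.f a ^ i = P.f a ^ i * P.g g
      rw [h2]
      exact (P.comm _ _).symm
    have h2 := Cfsg.Agent.S0279.result hF2 4 (by norm_num)
    have h3 : Nat.card (Subgroup.center (SU 4 F 2)) = 1 := by rw [h2]; decide
    rw [Subgroup.card_eq_one] at h3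
    rw [h3, Subgroup.mem_bot] at h1
    rw [h1, orderOf_one] at hb
    norm_num at hb
  let V : Subgroup (PSU 6 F 2) :=
    { carrier := {x | ∃ i j : ℤ, x = P.f a ^ i * P.g b ^ j}
      one_mem' := ⟨0, 0, by simp⟩
      mul_mem' := by
        rintro _ _ ⟨i, j, rfl⟩ ⟨i', j', rfl⟩
        refine ⟨i + i', j + j', ?_⟩
        have hc : Commute (P.g b ^ j) (P.f a ^ i') := ((show Commute (P.f a) (P.g b) from huv).symm.zpow_zpow j i')
        calc P.f a ^ i * P.g b ^ j * (P.f a ^ i' * P.g b ^ j') = P.f a ^ i * (P.g b ^ j * P.f a ^ i') * P.g b ^ j' := by group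
          _ = P.f a ^ i * (P.f a ^ i' * P.g b ^ j) * P.g b ^ j' := by rw [hc.eq]
          _ = P.f a ^ (i + i') * P.g b ^ (j + j') := by rw [zpow_add, zpow_add]; group
      inv_mem' := by
        rintro _ ⟨i, j, rfl⟩
        refine ⟨-i, -j, ?_⟩
        have hc : Commute (P.g b ^ (-j)) (P.f a ^ (-i)) := ((show Commute (P.f a) (P.g b) from huv).symm.zpow_zpow _ _)
        rw [mul_inv_rev, ← zpow_neg, ← zpow_neg, hc.eq] }
  have hcomm : ∀ x ∈ V, ∀ y ∈ V, x * y = y * x := by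
    rintro _ ⟨i, j, rfl⟩ _ ⟨i', j', rfl⟩
    have c0 : Commute (P.f a) (P.g b) := huv
    have c1 : Commute (P.f a ^ i) (P.f a ^ i' * P.g b ^ j') :=
      ((Commute.refl _).zpow_zpow i i').mul_right (c0.zpow_zpow i j')
    have c2 : Commute (P.g b ^ j) (P.f a ^ i' * P.g b ^ j') :=
      (c0.symm.zpow_zpow j i').mul_right ((Commute.refl _).zpow_zpow j j')
    exact (c1.mul_left c2).eq
  have hexp : ∀ v ∈ V, v ^ 3 = 1 := by
    rintro _ ⟨i, j, rfl⟩
    have c0 : Commute (P.f a ^ i) (P.g b ^ j) := ((show Commute (P.f a) (P.g b) from huv).zpow_zpow i j)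
    rw [c0.mul_pow, ← zpow_natCast, ← zpow_natCast, ← zpow_mul, ← zpow_mul, mul_comm i, mul_comm j, zpow_mul, zpow_mul]
    have h1 : P.f a ^ ((3 : ℕ) : ℤ) = 1 := by rw [zpow_natCast, ← hu, pow_orderOf_eq_one]
    have h2 : P.g b ^ ((3 : ℕ) : ℤ) = 1 := by rw [zpow_natCast, ← hv, pow_orderOf_eq_one]
    rw [h1, h2, one_zpow, one_zpow, one_mul]
  refine ⟨V, ⟨⟨fun x y => Subtype.ext (hcomm x x.2 y y.2)⟩⟩, fun hcyc => ?_, hexp⟩
  obtain ⟨w, hw⟩ := hcyc.exists_generator
  have hw3 : orderOf w ∣ 3 := orderOf_dvd_of_pow_eq_one (Subtype.ext (hexp w w.2))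
  have hcard : Nat.card V ∣ 3 := by rw [← orderOf_eq_card_of_forall_mem_zpowers hw]; exact hw3
  have hle : Subgroup.zpowers (P.f a) ≤ V := by
    rw [Subgroup.zpowers_le]
    exact ⟨1, 0, by simp⟩
  have h3 : Nat.card (Subgroup.zpowers (P.f a)) = 3 := by rw [Nat.card_zpowers, hu]
  have h4 : Subgroup.zpowers (P.f a) = V :=
    Subgroup.eq_of_le_of_card_ge hle (by rw [h3]; exact Nat.le_of_dvd (by norm_num) hcard)
  apply hnot
  rw [h4]
  exact ⟨0, 1, by simp⟩

theorem main (T : OrdDiv.OrderTable.{u})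
    (hS : ∀ (L : Type u) [Group L] [Finite L] [IsSimpleGroup L], Cfsg.IsKnownSimple' L)
    {X : Type u} [Group X] [Finite X] (A : Subgroup X) (hA : Nat.card A = 2 ^ 20)
    (H : Subgroup X) (hH : H = Subgroup.normalizer (A : Set X))
    (K : Subgroup X) (hKH : K ≤ H) (hAK : A ⊓ K = ⊥) (hHAK : A ⊔ K = H)
    (F : Type*) [Field F] [Fintype F] (hF : Fintype.card F = 4)
    (hK : Nonempty (K ≃* Cfsg.PSU 6 F 2) ∨
      ∃ K₀ : Subgroup K, K₀.Normal ∧ K₀.index = 2 ∧ Nonempty (K₀ ≃* Cfsg.PSU 6 F 2) ∧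
        Subgroup.centralizer (K₀ : Set K) = ⊥)
    (hmin : ∀ B : Subgroup X, B ≤ A → (∀ h ∈ H, ∀ b ∈ B, h * b * h⁻¹ ∈ B) → B = ⊥ ∨ B = A) :
    H = ⊤ ∨ ∃ g : X, g ∉ H ∧ 3 ∣ Nat.card ↥(H ⊓ H.map (MulAut.conj g).toMonoidHom) := by
  by_contra hcon
  push Not at hcon
  obtain ⟨hne, hcon⟩ := hcon
  have hcn : ∀ g y : X, orderOf y = 3 → y ∈ H → g * y * g⁻¹ ∈ H → g ∈ H := by
    intro g y hy hyH hg
    by_contra hgH
    apply hcon g hgH
    have h1 : g * y * g⁻¹ ∈ H ⊓ H.map (MulAut.conj g).toMonoidHom := ⟨hg, y, hyH, rfl⟩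
    have h2 := Subgroup.card_dvd_of_le (Subgroup.zpowers_le.mpr h1)
    rw [Nat.card_zpowers, ← MulAut.conj_apply, MulEquiv.orderOf_eq, hy] at h2
    exact h2
  have hnA : ∀ g : X, (∀ a ∈ A, g * a * g⁻¹ ∈ A) ↔ g ∈ H := by
    intro g
    rw [hH]
    constructor
    · intro h
      rw [Subgroup.mem_normalizer_iff]
      have h1 : A.map (MulAut.conj g).toMonoidHom = A := by
        apply Subgroup.eq_of_le_of_card_ge
        · rintro _ ⟨a, ha, rfl⟩; exact h a ha
        · exact (Nat.card_congr (A.equivMapOfInjective _ (MulAut.conj g).injective).toEquiv).le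
      intro a
      refine ⟨h a, fun ha => ?_⟩
      rw [← h1] at ha
      obtain ⟨b, hb, hab⟩ := ha
      have : b = a := (MulAut.conj g).injective hab
      rwa [← this]
    · intro h a ha
      exact (Subgroup.mem_normalizer_iff.mp h a).mp ha
  have hsimple : IsSimpleGroup (PSU 6 F 2) :=
    Cfsg.Agent.S0283.result (by rw [hF]; norm_num) 6 (by norm_num) (by norm_num)
  obtain ⟨V, hV1, hV2, hV3⟩ := exists_V hF
  have key : ∃ K₀ : Subgroup X, R338.Hyp A H K K₀ := by
    have mk : ∀ K₀ : Subgroup X, K₀ ≤ K → (∀ k ∈ K, ∀ x ∈ K₀, k * x * k⁻¹ ∈ K₀) → Nonempty (K₀ ≃* PSU 6 F 2) →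
        (∀ k ∈ K, (∀ x ∈ K₀, k * x = x * k) → k = 1) →
        (∃ k₁ ∈ K, k₁ * k₁ ∈ K₀ ∧ ∀ k ∈ K, k ∈ K₀ ∨ k₁⁻¹ * k ∈ K₀) → R338.Hyp A H K K₀ := by
      rintro K₀ h0 hn ⟨e⟩ hcen hcos
      refine ⟨hA, hnA, hKH, hAK, hHAK, h0, hn, ?_, ?_, hcen, hcos, hmin, hne, hcn, ?_⟩
      · rw [Nat.card_congr e.toEquiv, card_psu hF]
      · exact e.isSimpleGroup
      · let j : PSU 6 F 2 →* X := K₀.subtype.comp e.symm.toMonoidHom
        have hj : Function.Injective j := K₀.subtype_injective.comp e.symm.injective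
        refine ⟨V.map j, ?_, ?_, ?_, ?_⟩
        · rintro _ ⟨v, -, rfl⟩
          exact (e.symm v).2
        · refine ⟨⟨?_⟩⟩
          rintro ⟨_, v, hv, rfl⟩ ⟨_, w, hw, rfl⟩
          apply Subtype.ext
          change j v * j w = j w * j v
          rw [← map_mul, ← map_mul]
          congr 1
          exact congrArg Subtype.val (hV1.is_comm.comm ⟨v, hv⟩ ⟨w, hw⟩)
        · intro hcyc
          exact hV2 ((V.equivMapOfInjective j hj).isCyclic.mpr hcyc)
        · rintro _ ⟨v, hv, rfl⟩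
          rw [← map_pow, hV3 v hv, map_one]
    rcases hK with ⟨⟨e⟩⟩ | ⟨K₀, hn, hi, ⟨e⟩, hc⟩
    · refine ⟨K, mk K le_rfl (fun k hk x hx => K.mul_mem (K.mul_mem hk hx) (K.inv_mem hk)) ⟨e⟩ ?_
        ⟨1, K.one_mem, by simp, fun k hk => Or.inl hk⟩⟩
      intro k hk hx
      have h1 : e ⟨k, hk⟩ ∈ Subgroup.center (PSU 6 F 2) := by
        rw [Subgroup.mem_center_iff]
        intro g
        obtain ⟨x, rfl⟩ := e.surjective g
        rw [← map_mul, ← map_mul]
        congr 1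
        exact Subtype.ext (hx x x.2).symm
      have hnc : ¬ ∀ a b : PSU 6 F 2, a * b = b * a := by
        intro hab
        letI : CommGroup (PSU 6 F 2) := { (inferInstance : Group (PSU 6 F 2)) with mul_comm := hab }
        have hp := IsSimpleGroup.prime_card (α := PSU 6 F 2)
        rw [card_psu hF] at hp
        revert hp
        norm_num
      have h2 : Subgroup.center (PSU 6 F 2) = ⊥ := by
        rcases hsimple.eq_bot_or_eq_top_of_normal _ (inferInstance : (Subgroup.center (PSU 6 F 2)).Normal) with h | h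
        · exact h
        · exfalso
          apply hnc
          intro a b
          have : b ∈ Subgroup.center (PSU 6 F 2) := by rw [h]; trivial
          exact Subgroup.mem_center_iff.mp this a
      rw [h2, Subgroup.mem_bot] at h1
      have h3 : (⟨k, hk⟩ : K) = 1 := e.injective (by rw [h1, map_one])
      exact congrArg Subtype.val h3
    · refine ⟨K₀.map K.subtype, mk _ (Subgroup.map_subtype_le _) ?_
        ⟨(K₀.equivMapOfInjective _ K.subtype_injective).symm.trans e⟩ ?_ ?_⟩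
      · rintro k hk _ ⟨x, hx, rfl⟩
        exact ⟨⟨k, hk⟩ * x * ⟨k, hk⟩⁻¹, hn.conj_mem x hx ⟨k, hk⟩, rfl⟩
      · intro k hk hx
        have h1 : (⟨k, hk⟩ : K) ∈ Subgroup.centralizer (K₀ : Set K) := by
          rw [Subgroup.mem_centralizer_iff]
          intro x hx'
          exact Subtype.ext (hx x ⟨x, hx', rfl⟩).symm
        rw [hc, Subgroup.mem_bot] at h1
        exact congrArg Subtype.val h1
      · obtain ⟨k₁, hk₁⟩ : ∃ k₁ : K, k₁ ∉ K₀ := by
          by_contra hall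
          push Not at hall
          have : K₀ = ⊤ := by rw [eq_top_iff]; intro x _; exact hall x
          rw [this, Subgroup.index_top] at hi
          norm_num at hi
        refine ⟨k₁, k₁.2, ⟨k₁ * k₁, (Subgroup.mul_mem_iff_of_index_two hi).mpr Iff.rfl, rfl⟩, fun k hk => ?_⟩
        by_cases h1 : (⟨k, hk⟩ : K) ∈ K₀
        · exact Or.inl ⟨_, h1, rfl⟩
        · refine Or.inr ⟨k₁⁻¹ * ⟨k, hk⟩, (Subgroup.mul_mem_iff_of_index_two hi).mpr ?_, rfl⟩
          exact ⟨fun h => absurd (inv_mem_iff.mp h) hk₁, fun h => absurd h h1⟩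
  obtain ⟨K₀, h⟩ := key
  exact h.false T (fun L _ _ _ => hS L)


end Cfsg.Agent.H343.M338
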