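import Mathlib
import Cfsg.Agent.Lib.Cores
import Cfsg.Agent.S0058
import Cfsg.Agent.GH.C2GrowG

/-!
# Minimal normal subgroups: tools for the reductions to simple groups (helper343)
-/

set_option autoImplicit false
set_option linter.unusedVariables false
set_option linter.unusedSectionVars false

namespace Cfsg.Agent.H343.Red

open Subgroup

variable {X : Type*} [Group X] [Finite X]

/-- a nonempty class of subgroups has a member of least order -/
theorem exists_min (P : Subgroup X → Prop) {N : Subgroup X} (hN : P N) :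
    ∃ S, P S ∧ ∀ T, P T → Nat.card S ≤ Nat.card T := by
  obtain ⟨S, hS, h⟩ := Set.exists_min_image {S | P S} (fun S => Nat.card S) (Set.toFinite _) ⟨N, hN⟩
  exact ⟨S, hS, h⟩

theorem eq_of_le_of_card_le {A B : Subgroup X} (h : A ≤ B) (hc : Nat.card B ≤ Nat.card A) : A = B :=
  Subgroup.eq_of_le_of_card_ge h hc

/-- minimal normal subgroups -/
structure MinNormal (N : Subgroup X) : Prop where
  normal : N.Normal
  ne : N ≠ ⊥
  min : ∀ M : Subgroup X, M.Normal → M ≤ N → M ≠ ⊥ → M = N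

theorem exists_minNormal {M : Subgroup X} (hM : M.Normal) (h : M ≠ ⊥) : ∃ N ≤ M, MinNormal N := by
  obtain ⟨N, ⟨h1, h2, h3⟩, h4⟩ := exists_min (fun N : Subgroup X => N ≤ M ∧ N.Normal ∧ N ≠ ⊥) ⟨le_rfl, hM, h⟩
  exact ⟨N, h1, h2, h3, fun T hT hTN hT1 => eq_of_le_of_card_le hTN (h4 T ⟨hTN.trans h1, hT, hT1⟩)⟩

/-- minimal among the nontrivial subgroups of `N` normalized by `N` -/
structure MinIn (N S : Subgroup X) : Prop where
  le : S ≤ N
  ne : S ≠ ⊥
  norm : ∀ n ∈ N, ∀ s ∈ S, n * s * n⁻¹ ∈ S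
  min : ∀ T ≤ S, T ≠ ⊥ → (∀ n ∈ N, ∀ s ∈ T, n * s * n⁻¹ ∈ T) → T = S

theorem exists_minIn {N T : Subgroup X} (hT : T ≤ N) (hT1 : T ≠ ⊥) (hn : ∀ n ∈ N, ∀ s ∈ T, n * s * n⁻¹ ∈ T) :
    ∃ S ≤ T, MinIn N S := by
  obtain ⟨S, ⟨h1, h2, h3⟩, h4⟩ := exists_min
    (fun S : Subgroup X => S ≤ T ∧ S ≠ ⊥ ∧ ∀ n ∈ N, ∀ s ∈ S, n * s * n⁻¹ ∈ S) ⟨le_rfl, hT1, hn⟩
  exact ⟨S, h1, h1.trans hT, h2, h3, fun U hU hU1 hUn => eq_of_le_of_card_le hU (h4 U ⟨hU.trans h1, hU1, hUn⟩)⟩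

/-- conjugate subgroup -/
abbrev cj (g : X) (S : Subgroup X) : Subgroup X := S.map (MulAut.conj g).toMonoidHom

theorem mem_cj {g x : X} {S : Subgroup X} : x ∈ cj g S ↔ g⁻¹ * x * g ∈ S := by
  constructor
  · rintro ⟨s, hs, rfl⟩
    simpa [MulAut.conj_apply, mul_assoc] using hs
  · intro h
    exact ⟨g⁻¹ * x * g, h, by simp [MulAut.conj_apply, mul_assoc]⟩

theorem conj_mem_cj {g x : X} {S : Subgroup X} (h : x ∈ S) : g * x * g⁻¹ ∈ cj g S := ⟨x, h, rfl⟩

theorem card_cj (g : X) (S : Subgroup X) : Nat.card (cj g S) = Nat.card S :=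
  (Nat.card_congr (S.equivMapOfInjective _ (MulAut.conj g).injective).toEquiv).symm

theorem cj_cj (g h : X) (S : Subgroup X) : cj g (cj h S) = cj (g * h) S := by
  ext x
  rw [mem_cj, mem_cj, mem_cj]
  simp [mul_assoc]

theorem cj_one (S : Subgroup X) : cj 1 S = S := by
  ext x
  rw [mem_cj]
  simp

theorem cj_le_cj {g : X} {S T : Subgroup X} (h : S ≤ T) : cj g S ≤ cj g T := Subgroup.map_mono h

theorem cj_of_normal {N : Subgroup X} (hN : N.Normal) (g : X) : cj g N = N := by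
  ext x
  rw [mem_cj]
  constructor
  · intro h
    have := hN.conj_mem _ h g
    simpa [mul_assoc] using this
  · intro h
    have := hN.conj_mem _ h g⁻¹
    simpa [mul_assoc] using this

theorem MinIn.conj {N S : Subgroup X} (hN : N.Normal) (h : MinIn N S) (g : X) : MinIn N (cj g S) where
  le := by
    have := cj_le_cj (g := g) h.le
    rwa [cj_of_normal hN] at this
  ne := by
    intro h0
    apply h.ne
    rw [← Subgroup.card_eq_one, ← card_cj g, h0]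
    simp
  norm n hn s hs := by
    rw [mem_cj] at hs ⊢
    have h1 := h.norm (g⁻¹ * n * g) (by
      have := hN.conj_mem n hn g⁻¹
      simpa using this) _ hs
    have e : g⁻¹ * n * g * (g⁻¹ * s * g) * (g⁻¹ * n * g)⁻¹ = g⁻¹ * (n * s * n⁻¹) * g := by group
    rwa [e] at h1
  min T hT hT1 hTn := by
    have h1 : cj g⁻¹ T ≤ S := by
      have := cj_le_cj (g := g⁻¹) hT
      rwa [cj_cj, inv_mul_cancel, cj_one] at this
    have h2 := h.min (cj g⁻¹ T) h1 (by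
      intro h0
      apply hT1
      rw [← Subgroup.card_eq_one, ← card_cj g⁻¹, h0]
      simp) (by
      intro n hn s hs
      rw [mem_cj] at hs ⊢
      have h1 := hTn (g⁻¹⁻¹ * n * g⁻¹) (by
        have := hN.conj_mem n hn g
        simpa using this) _ hs
      have e : g⁻¹⁻¹ * n * g⁻¹ * (g⁻¹⁻¹ * s * g⁻¹) * (g⁻¹⁻¹ * n * g⁻¹)⁻¹ = g⁻¹⁻¹ * (n * s * n⁻¹) * g⁻¹ := by group
      rwa [e] at h1)
    rw [← h2, cj_cj, mul_inv_cancel, cj_one]

theorem MinIn.comm {N S S' : Subgroup X} (h : MinIn N S) (h' : MinIn N S') (hne : S ≠ S') :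
    ∀ a ∈ S, ∀ b ∈ S', a * b = b * a := by
  have h1 : S ⊓ S' = ⊥ := by
    by_contra h0
    have hn : ∀ n ∈ N, ∀ s ∈ S ⊓ S', n * s * n⁻¹ ∈ S ⊓ S' := fun n hn s hs =>
      ⟨h.norm n hn s hs.1, h'.norm n hn s hs.2⟩
    have e1 := h.min _ inf_le_left h0 hn
    have e2 := h'.min _ inf_le_right h0 hn
    exact hne (e1.symm.trans e2)
  intro a ha b hb
  have h2 : a * b * a⁻¹ * b⁻¹ ∈ S ⊓ S' := by
    constructor
    · rw [mul_assoc, mul_assoc]
      refine S.mul_mem ha ?_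
      rw [← mul_assoc]
      exact h.norm b (h'.le hb) _ (S.inv_mem ha)
    · exact S'.mul_mem (h'.norm a (h.le ha) b hb) (S'.inv_mem hb)
  rw [h1, mem_bot] at h2
  have h3 : a * b * a⁻¹ = b := mul_inv_eq_one.mp h2
  exact mul_inv_eq_iff_eq_mul.mp h3

theorem isSimpleGroup_of_minIn {N : Subgroup X} (hN : N ≠ ⊥) (h : ∀ S, MinIn N S → S = N) : IsSimpleGroup N where
  exists_pair_ne := by
    obtain ⟨x, hx⟩ := (Subgroup.ne_bot_iff_exists_ne_one).mp hN
    exact ⟨x, 1, hx⟩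
  eq_bot_or_eq_top_of_normal T hT := by
    by_cases h0 : T = ⊥
    · exact Or.inl h0
    · right
      have h1 : T.map N.subtype ≤ N := Subgroup.map_subtype_le T
      have h2 : T.map N.subtype ≠ ⊥ := by
        intro h2
        exact h0 ((Subgroup.map_eq_bot_iff_of_injective T N.subtype_injective).mp h2)
      obtain ⟨S, hST, hS⟩ := exists_minIn h1 h2 (by
        rintro n hn _ ⟨s, hs, rfl⟩
        exact ⟨⟨n, hn⟩ * s * ⟨n, hn⟩⁻¹, hT.conj_mem s hs ⟨n, hn⟩, rfl⟩)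
      rw [h S hS] at hST
      rw [eq_top_iff]
      intro x _
      obtain ⟨y, hy, hxy⟩ := hST x.2
      have : y = x := Subtype.ext hxy
      rwa [← this]

omit [Finite X] in
/-- the elements of `A B`, `B` normalizing `A` -/
theorem mem_sup_of_norm {A B : Subgroup X} (h : ∀ b ∈ B, ∀ a ∈ A, b * a * b⁻¹ ∈ A) {x : X} (hx : x ∈ A ⊔ B) :
    ∃ a ∈ A, ∃ b ∈ B, x = a * b := by
  let S : Subgroup X :=
    { carrier := {x | ∃ a ∈ A, ∃ b ∈ B, x = a * b}
      one_mem' := ⟨1, A.one_mem, 1, B.one_mem, by simp⟩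
      mul_mem' := by
        rintro _ _ ⟨a, ha, b, hb, rfl⟩ ⟨a', ha', b', hb', rfl⟩
        exact ⟨a * (b * a' * b⁻¹), A.mul_mem ha (h b hb a' ha'), b * b', B.mul_mem hb hb', by group⟩
      inv_mem' := by
        rintro _ ⟨a, ha, b, hb, rfl⟩
        refine ⟨b⁻¹ * a⁻¹ * b⁻¹⁻¹, h b⁻¹ (B.inv_mem hb) _ (A.inv_mem ha), b⁻¹, B.inv_mem hb, by group⟩ }
  have : A ⊔ B ≤ S := sup_le (fun a ha => ⟨a, ha, 1, B.one_mem, by simp⟩) (fun b hb => ⟨1, A.one_mem, b, hb, by simp⟩)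
  exact this hx

/-- the order of `A ⊔ B`, `B` normalizing `A` -/
theorem card_sup {A B : Subgroup X} (h : ∀ b ∈ B, ∀ a ∈ A, b * a * b⁻¹ ∈ A) :
    Nat.card ↥(A ⊔ B) * Nat.card ↥(A ⊓ B) = Nat.card A * Nat.card B := by
  have hBn : B ≤ normalizer (A : Set X) := by
    intro b hb
    rw [mem_normalizer_iff]
    intro a
    refine ⟨fun ha => h b hb a ha, fun ha => ?_⟩
    have := h b⁻¹ (B.inv_mem hb) _ ha
    have e : b⁻¹ * (b * a * b⁻¹) * b⁻¹⁻¹ = a := by group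
    rwa [e] at this
  have h1 := Cfsg.Agent.GH.C2GrowG.card_sup hBn
  rw [sup_comm, inf_comm, h1, mul_comm]

end Cfsg.Agent.H343.Red
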