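import Cfsg.Agent.H343.Red
import Cfsg.Agent.H343.Elim338

/-!
# Reduction for S3338: a strongly 3-embedded `2^20 : U_6(2)` (helper343)
-/

set_option autoImplicit false
set_option linter.unusedVariables false
set_option linter.unusedSectionVars false

namespace Cfsg.Agent.H343.R338

open Subgroup Cfsg Cfsg.Agent.H343.Red

universe u

variable {X : Type u} [Group X] [Finite X]

/-- the hypotheses: `H = A K`, `K₀ ≤ K` simple of the order of `U_6(2)` with trivial centralizer in `K` and index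
at most two, `H` strongly 3-embedded -/
structure Hyp (A H K K₀ : Subgroup X) : Prop where
  cA : Nat.card A = 2 ^ 20
  nA : ∀ g : X, (∀ a ∈ A, g * a * g⁻¹ ∈ A) ↔ g ∈ H
  le : K ≤ H
  inf : A ⊓ K = ⊥
  sup : A ⊔ K = H
  le0 : K₀ ≤ K
  norm0 : ∀ k ∈ K, ∀ x ∈ K₀, k * x * k⁻¹ ∈ K₀
  c0 : Nat.card K₀ = 9196830720
  simple : IsSimpleGroup K₀
  cen0 : ∀ k ∈ K, (∀ x ∈ K₀, k * x = x * k) → k = 1
  coset : ∃ k₁ ∈ K, k₁ * k₁ ∈ K₀ ∧ ∀ k ∈ K, k ∈ K₀ ∨ k₁⁻¹ * k ∈ K₀
  min : ∀ B : Subgroup X, B ≤ A → (∀ h ∈ H, ∀ b ∈ B, h * b * h⁻¹ ∈ B) → B = ⊥ ∨ B = A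
  ne : H ≠ ⊤
  con : ∀ g y : X, orderOf y = 3 → y ∈ H → g * y * g⁻¹ ∈ H → g ∈ H
  V : ∃ V : Subgroup X, V ≤ K₀ ∧ IsMulCommutative V ∧ ¬ IsCyclic V ∧ ∀ v ∈ V, v ^ 3 = 1

variable {A H K K₀ : Subgroup X}

namespace Hyp

theorem leA (h : Hyp A H K K₀) : A ≤ H := by rw [← h.sup]; exact le_sup_left

theorem normA (h : Hyp A H K K₀) {g a : X} (hg : g ∈ H) (ha : a ∈ A) : g * a * g⁻¹ ∈ A := (h.nA g).mpr hg a ha

/-- `|H| = 2^20 |K|` -/
theorem cardK (h : Hyp A H K K₀) : ∃ j, (j = 1 ∨ j = 2) ∧ Nat.card K = j * 9196830720 := by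
  obtain ⟨k₁, hk₁, hk2, hk⟩ := h.coset
  by_cases hk0 : k₁ ∈ K₀
  · refine ⟨1, Or.inl rfl, ?_⟩
    have : K = K₀ := le_antisymm (fun k hkK => by
      rcases hk k hkK with h1 | h1
      · exact h1
      · have := K₀.mul_mem hk0 h1
        simpa using this) h.le0
    rw [this, h.c0, one_mul]
  · refine ⟨2, Or.inr rfl, ?_⟩
    have h2 : K₀.relIndex K = 2 := by
      rw [relIndex, index_eq_two_iff]
      refine ⟨⟨k₁, hk₁⟩, fun b => ?_⟩
      rw [mem_subgroupOf, mem_subgroupOf]
      rcases hk b.1 b.2 with h1 | h1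
      · refine Or.inr ⟨h1, fun h3 => hk0 ?_⟩
        have := K₀.mul_mem (K₀.inv_mem h1) h3
        simpa using this
      · have h4 : (b : X) * k₁ ∈ K₀ := by
          have e1 := K₀.mul_mem hk2 (h.norm0 k₁⁻¹ (K.inv_mem hk₁) _ h1)
          have e2 : k₁ * k₁ * (k₁⁻¹ * (k₁⁻¹ * b.1) * k₁⁻¹⁻¹) = b.1 * k₁ := by group
          rwa [e2] at e1
        refine Or.inl ⟨h4, fun h3 => hk0 ?_⟩
        have := K₀.mul_mem (K₀.inv_mem h3) h4
        simpa using this
    have h3 : Nat.card K₀ * K₀.relIndex K = Nat.card K := by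
      rw [← relIndex_bot_left, ← relIndex_bot_left]
      exact relIndex_mul_relIndex _ _ _ bot_le h.le0
    rw [← h3, h2, h.c0, mul_comm]

theorem cardH (h : Hyp A H K K₀) : ∃ j, (j = 1 ∨ j = 2) ∧ Nat.card H = 2 ^ 20 * (j * 9196830720) := by
  obtain ⟨j, hj, hK⟩ := h.cardK
  refine ⟨j, hj, ?_⟩
  have h1 := card_sup (A := A) (B := K) (fun b hb a ha => h.normA (h.le hb) ha)
  rw [h.sup, h.inf, h.cA, hK] at h1
  simpa using h1

theorem cardH_dvd (h : Hyp A H K K₀) : Nat.card H ∣ N1 := by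
  obtain ⟨j, hj, hH⟩ := h.cardH
  rw [hH]
  rcases hj with rfl | rfl <;> decide +kernel

theorem dvd_cardH (h : Hyp A H K K₀) : 3 ^ 6 ∣ Nat.card H ∧ ¬ 3 ^ 7 ∣ Nat.card H := by
  obtain ⟨j, hj, hH⟩ := h.cardH
  rw [hH]
  rcases hj with rfl | rfl <;> constructor <;> decide +kernel

/-- a subgroup of `H` of order `3^6` -/
theorem exists_P (h : Hyp A H K K₀) : ∃ P : Subgroup X, P ≤ H ∧ Nat.card P = 3 ^ 6 := by
  have : Fact (Nat.Prime 3) := ⟨Nat.prime_three⟩
  obtain ⟨P, hP⟩ := Sylow.exists_subgroup_card_pow_prime 3 h.dvd_cardH.1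
  refine ⟨P.map H.subtype, map_subtype_le P, ?_⟩
  rw [← hP]
  exact (Nat.card_congr (P.equivMapOfInjective _ H.subtype_injective).toEquiv).symm

theorem exists_three {P : Subgroup X} (h : 3 ∣ Nat.card P) : ∃ y ∈ P, orderOf y = 3 := by
  have : Fact (Nat.Prime 3) := ⟨Nat.prime_three⟩
  obtain ⟨y, hy⟩ := exists_prime_orderOf_dvd_card' (G := P) 3 h
  exact ⟨y, y.2, by rw [Subgroup.orderOf_coe]; exact hy⟩

/-- normalizers of 3-local subgroups of `H` -/
theorem normalizer_le (h : Hyp A H K K₀) {R : Subgroup X} (hR : R ≤ H) (h3 : 3 ∣ Nat.card R) :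
    normalizer (R : Set X) ≤ H := by
  intro g hg
  obtain ⟨y, hy, ho⟩ := exists_three h3
  exact h.con g y ho (hR hy) (hR ((mem_normalizer_iff.mp hg y).mp hy))

theorem cent_le (h : Hyp A H K K₀) {y : X} (hy : y ∈ H) (ho : orderOf y = 3) {g : X} (hg : g * y = y * g) : g ∈ H :=
  h.con g y ho hy (by rw [hg, mul_inv_cancel_right]; exact hy)

theorem not_dvd (h : Hyp A H K K₀) : ¬ 3 ^ 7 ∣ Nat.card X := by
  have : Fact (Nat.Prime 3) := ⟨Nat.prime_three⟩
  intro h7
  obtain ⟨P, hPH, hP⟩ := h.exists_P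
  have h1 := Sylow.prime_dvd_card_quotient_normalizer (p := 3) (n := 6) h7 hP
  have h2 : 3 ^ 7 ∣ Nat.card (normalizer (P : Set X)) := by
    have h3 := Subgroup.card_mul_index (P.subgroupOf (normalizer (P : Set X)))
    have h4 : Nat.card (P.subgroupOf (normalizer (P : Set X))) = 3 ^ 6 := by
      rw [← hP]
      exact Nat.card_congr (Subgroup.subgroupOfEquivOfLe le_normalizer).toEquiv
    rw [← h3, h4, pow_succ]
    exact Nat.mul_dvd_mul_left _ h1
  have h5 := h.normalizer_le hPH (by rw [hP]; norm_num)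
  exact h.dvd_cardH.2 (h2.trans (Subgroup.card_dvd_of_le h5))

theorem exists_conj (h : Hyp A H K K₀) {y : X} (hy : orderOf y = 3) : ∃ g : X, g * y * g⁻¹ ∈ H := by
  have : Fact (Nat.Prime 3) := ⟨Nat.prime_three⟩
  obtain ⟨P, hPH, hP⟩ := h.exists_P
  have hc : Nat.card P = 3 ^ (Nat.card X).factorization 3 := by
    rw [hP]
    congr 1
    have h0 : Nat.card X ≠ 0 := Nat.card_pos.ne'
    have h1 : 3 ^ 6 ∣ Nat.card X := h.dvd_cardH.1.trans (Subgroup.card_subgroup_dvd_card H)
    have h2 := (Nat.prime_three.pow_dvd_iff_le_factorization h0).mp h1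
    have h3 : ¬ 7 ≤ (Nat.card X).factorization 3 := fun h3 =>
      h.not_dvd ((Nat.prime_three.pow_dvd_iff_le_factorization h0).mpr h3)
    omega
  let S : Sylow 3 X := Sylow.ofCard P hc
  obtain ⟨Q, hQ⟩ := IsPGroup.exists_le_sylow (p := 3) (P := zpowers y) (by
    rintro ⟨_, n, rfl⟩
    refine ⟨1, Subtype.ext ?_⟩
    show (y ^ n) ^ (3 ^ 1) = 1
    rw [← zpow_natCast, ← zpow_mul, mul_comm, zpow_mul, zpow_natCast, pow_one, ← hy, pow_orderOf_eq_one, one_zpow])
  obtain ⟨g, hg⟩ := MulAction.exists_smul_eq X Q S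
  refine ⟨g, hPH ?_⟩
  have h1 : g * y * g⁻¹ ∈ ((g • Q : Sylow 3 X) : Subgroup X) := by
    rw [Sylow.coe_subgroup_smul]
    exact ⟨y, hQ (mem_zpowers y), rfl⟩
  rw [hg] at h1
  exact h1

theorem card_cent (h : Hyp A H K K₀) {y : X} (hy : orderOf y = 3) :
    Nat.card (centralizer ({y} : Set X)) ∣ N1 := by
  obtain ⟨g, hg⟩ := h.exists_conj hy
  have h1 := card_centralizer_equiv (MulAut.conj g) y
  rw [← h1]
  refine (Subgroup.card_dvd_of_le ?_).trans h.cardH_dvd
  intro c hc
  refine h.cent_le (y := g * y * g⁻¹) hg ?_ (mem_centralizer_singleton_iff.mp hc)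
  rw [← MulAut.conj_apply, MulEquiv.orderOf_eq, hy]

/-- subgroups normalized by `H` -/
theorem le_or (h : Hyp A H K K₀) {M : Subgroup X} (hM : M ≤ H) (hn : ∀ g ∈ H, ∀ m ∈ M, g * m * g⁻¹ ∈ M) :
    M ≤ A ∨ K₀ ≤ M ⊔ A := by
  have hs := h.simple
  -- `M A` is normalized by `H`
  have hMA : ∀ g ∈ H, ∀ m ∈ M ⊔ A, g * m * g⁻¹ ∈ M ⊔ A := by
    intro g hg m hm
    have h1 : (M ⊔ A).map (MulAut.conj g).toMonoidHom ≤ M ⊔ A := by
      rw [Subgroup.map_sup]
      refine sup_le (le_sup_of_le_left ?_) (le_sup_of_le_right ?_)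
      · rintro _ ⟨m, hm, rfl⟩; exact hn g hg m hm
      · rintro _ ⟨a, ha, rfl⟩; exact h.normA hg ha
    exact h1 ⟨m, hm, rfl⟩
  have hN : ((M ⊔ A).subgroupOf K₀).Normal := by
    refine ⟨fun x hx g => ?_⟩
    rw [mem_subgroupOf] at hx ⊢
    exact hMA g.1 (h.le (h.le0 g.2)) x.1 hx
  rcases hs.eq_bot_or_eq_top_of_normal _ hN with h1 | h1
  · left
    -- `K ∩ M A` centralizes `K₀`
    have h2 : ∀ k ∈ K, k ∈ M ⊔ A → k = 1 := by
      intro k hk hkM
      apply h.cen0 k hk
      intro x hx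
      have h3 : k * x * k⁻¹ * x⁻¹ ∈ K₀ := K₀.mul_mem (h.norm0 k hk x hx) (K₀.inv_mem hx)
      have h4 : k * x * k⁻¹ * x⁻¹ ∈ M ⊔ A := by
        rw [mul_assoc, mul_assoc]
        refine (M ⊔ A).mul_mem hkM ?_
        rw [← mul_assoc]
        exact hMA x (h.le (h.le0 hx)) _ ((M ⊔ A).inv_mem hkM)
      have h5 : (⟨_, h3⟩ : K₀) ∈ (M ⊔ A).subgroupOf K₀ := h4
      rw [h1, mem_bot] at h5
      have h6 : k * x * k⁻¹ * x⁻¹ = 1 := congrArg Subtype.val h5
      exact mul_inv_eq_iff_eq_mul.mp (mul_inv_eq_one.mp h6)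
    intro m hm
    have hmH := hM hm
    rw [← h.sup] at hmH
    -- m = a k
    obtain ⟨a, ha, k, hk, rfl⟩ := mem_sup_of_norm (A := A) (B := K) (fun b hb a ha => h.normA (h.le hb) ha) hmH
    have h3 : k ∈ M ⊔ A := by
      have h4 : a * k ∈ M ⊔ A := (le_sup_left : M ≤ M ⊔ A) hm
      have h5 : a ∈ M ⊔ A := (le_sup_right : A ≤ M ⊔ A) ha
      have := (M ⊔ A).mul_mem ((M ⊔ A).inv_mem h5) h4
      simpa using this
    rw [h2 k hk h3, mul_one]
    exact ha
  · right
    intro x hx
    have : (⟨x, hx⟩ : K₀) ∈ (M ⊔ A).subgroupOf K₀ := by rw [h1]; trivial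
    exact this

theorem normal_three (h : Hyp A H K K₀) {N : Subgroup X} (hN : N.Normal) (h3 : ¬ 3 ∣ Nat.card N) : N = ⊥ := by
  have hNH : N ≤ H := by
    obtain ⟨V, hVK, hVc, hV, hV3⟩ := h.V
    have : Fact (Nat.Prime 3) := ⟨Nat.prime_three⟩
    have hVp : IsPGroup 3 V := fun v => ⟨1, Subtype.ext (by simpa using hV3 v v.2)⟩
    have hcop : (Nat.card V).Coprime (Nat.card N) := by
      obtain ⟨n, hn⟩ := hVp.exists_card_eq
      rw [hn]
      exact Nat.Coprime.pow_left n ((Nat.Prime.coprime_iff_not_dvd Nat.prime_three).mpr h3)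
    have h1 := Cfsg.Agent.S0058.result V N hV (by rw [normalizer_eq_top_iff.mpr hN]; exact le_top) hcop
    rw [← h1]
    refine iSup₂_le fun v hv => ?_
    intro g hg
    have hv1 : orderOf v = 3 := orderOf_eq_prime_iff.mpr ⟨hV3 v hv.1, hv.2⟩
    exact h.cent_le (h.le (h.le0 (hVK hv.1))) hv1 (mem_centralizer_singleton_iff.mp hg.2)
  have hNA : N ≤ A := by
    rcases h.le_or hNH (fun g _ m hm => hN.conj_mem m hm g) with h1 | h1
    · exact h1
    · exfalso
      have h2 : 3 ∣ Nat.card N * Nat.card A := by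
        have h4 := Subgroup.card_dvd_of_le h1
        rw [h.c0] at h4
        have h5 := card_sup (A := N) (B := A) (fun b _ a ha => hN.conj_mem a ha b)
        rw [← h5]
        exact ((by norm_num : 3 ∣ 9196830720).trans h4).mul_right _
      rcases (Nat.Prime.dvd_mul Nat.prime_three).mp h2 with h4 | h4
      · exact h3 h4
      · rw [h.cA] at h4
        have := Nat.prime_three.dvd_of_dvd_pow h4
        omega
  rcases h.min N hNA (fun g _ m hm => hN.conj_mem m hm g) with h1 | h1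
  · exact h1
  · exfalso
    subst h1
    apply h.ne
    rw [eq_top_iff]
    intro g _
    exact (h.nA g).mp fun a ha => hN.conj_mem a ha g

theorem not_le (h : Hyp A H K K₀) {N : Subgroup X} (hN : N.Normal) (hNH : N ≤ H) : N = ⊥ := by
  by_contra h0
  have h3 : 3 ∣ Nat.card N := by
    by_contra h3
    exact h0 (h.normal_three hN h3)
  have : Fact (Nat.Prime 3) := ⟨Nat.prime_three⟩
  obtain ⟨P⟩ : Nonempty (Sylow 3 N) := inferInstance
  have h1 := Sylow.normalizer_sup_eq_top (N := N) P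
  have h2 : (P.1.map N.subtype) ≤ H := (map_subtype_le _).trans hNH
  have h4 : 3 ∣ Nat.card (P.1.map N.subtype) := by
    rw [← Nat.card_congr (P.1.equivMapOfInjective _ N.subtype_injective).toEquiv]
    exact P.dvd_card_of_dvd_card h3
  have h5 := h.normalizer_le h2 h4
  apply h.ne
  rw [eq_top_iff, ← h1]
  exact sup_le h5 hNH

/-- a minimal normal subgroup is simple -/
theorem simple_of_min (h : Hyp A H K K₀) {N : Subgroup X} (hN : MinNormal N) : IsSimpleGroup N := by
  have hcore : ∀ S, MinIn N S → 3 ∣ Nat.card S := by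
    intro S hS
    by_contra h3
    -- the normal closure
    have hSn : (S.subgroupOf N).Normal := ⟨fun x hx g => hS.norm g.1 g.2 x.1 hx⟩
    have hc : (Nat.card (S.subgroupOf N)).Coprime 3 := by
      rw [Nat.card_congr (Subgroup.subgroupOfEquivOfLe hS.le).toEquiv]
      exact ((Nat.Prime.coprime_iff_not_dvd Nat.prime_three).mpr h3).symm
    have h1 := Cfsg.Agent.Lib.Cores.le_pPrimeCore hSn hc
    have h2 := Cfsg.Agent.Lib.Cores.pPrimeCore_coprime (G := N) 3
    have h4 := Cfsg.Agent.Lib.Cores.pPrimeCore_characteristic (G := N) 3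
    have h5 : ((pPrimeCore 3 N).map N.subtype).Normal := by
      have := hN.normal
      exact ConjAct.normal_of_characteristic_of_normal
    have h6 : ¬ 3 ∣ Nat.card ((pPrimeCore 3 N).map N.subtype) := by
      rw [← Nat.card_congr ((pPrimeCore 3 N).equivMapOfInjective _ N.subtype_injective).toEquiv]
      exact (Nat.Prime.coprime_iff_not_dvd Nat.prime_three).mp h2.symm
    have h7 := h.normal_three h5 h6
    rw [Subgroup.map_eq_bot_iff_of_injective _ N.subtype_injective] at h7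
    rw [h7, le_bot_iff, subgroupOf_eq_bot] at h1
    exact hS.ne (by
      rw [disjoint_iff, inf_of_le_left hS.le] at h1
      exact h1)
  refine isSimpleGroup_of_minIn hN.ne fun S hS => ?_
  by_contra hSN
  -- conjugate into `H`
  obtain ⟨y, hyS, hy⟩ := exists_three (hcore S hS)
  obtain ⟨t, ht⟩ := h.exists_conj hy
  have hR1 := hS.conj hN.normal t
  -- every other conjugate lies in `H`
  have key : ∀ g : X, cj g S ≠ cj t S → cj g S ≤ H := by
    intro g hg
    intro x hx
    have h1 := (hS.conj hN.normal g).comm hR1 hg x hx (t * y * t⁻¹) (conj_mem_cj hyS)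
    refine h.cent_le ht ?_ h1
    rw [← MulAut.conj_apply, MulEquiv.orderOf_eq, hy]
  -- there is another conjugate
  have hex : ∃ g : X, cj g S ≠ cj t S := by
    by_contra hcon
    push Not at hcon
    apply hSN
    apply hN.min S _ hS.le hS.ne
    refine ⟨fun s hs g => ?_⟩
    have h1 := conj_mem_cj (g := g) hs
    rw [hcon g, ← hcon 1, cj_one] at h1
    exact h1
  obtain ⟨g, hg⟩ := hex
  have hall : ∀ x : X, cj x S ≤ H := by
    intro x
    by_cases hx : cj x S = cj t S
    · rw [hx]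
      have h3 : 3 ∣ Nat.card (cj g S) := by rw [card_cj]; exact hcore S hS
      obtain ⟨z, hz, hzo⟩ := exists_three h3
      intro w hw
      exact h.cent_le (key g hg hz) hzo (hR1.comm (hS.conj hN.normal g) hg.symm w hw z hz)
    · exact key x hx
  have hncl : Subgroup.normalClosure (S : Set X) ≤ H := by
    unfold normalClosure
    rw [closure_le]
    intro x hx
    rw [Group.mem_conjugatesOfSet_iff] at hx
    obtain ⟨s, hs, hc⟩ := hx
    obtain ⟨c, hc⟩ := isConj_iff.mp hc
    rw [← hc]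
    exact hall c (conj_mem_cj hs)
  have h0 := h.not_le normalClosure_normal hncl
  exact hS.ne (le_bot_iff.mp (h0 ▸ (le_normalClosure : S ≤ _)))

/-- `A` is abelian of exponent two -/
theorem A_comm (h : Hyp A H K K₀) : (∀ a ∈ A, ∀ b ∈ A, a * b = b * a) ∧ ∀ a ∈ A, a * a = 1 := by
  have : Fact (Nat.Prime 2) := ⟨Nat.prime_two⟩
  have hA1 : A ≠ ⊥ := by
    intro h0
    have := h.cA
    rw [h0] at this
    simp at this
  have hp : IsPGroup 2 A := IsPGroup.of_card h.cA
  have : Nontrivial A := (Subgroup.nontrivial_iff_ne_bot A).mpr hA1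
  have hc : ∀ a ∈ A, ∀ b ∈ A, a * b = b * a := by
    have hZ : (Subgroup.center A).map A.subtype = A := by
      rcases h.min ((Subgroup.center A).map A.subtype) (map_subtype_le _) (by
        rintro g hg _ ⟨z, hz, rfl⟩
        refine ⟨⟨g * z * g⁻¹, h.normA hg z.2⟩, ?_, rfl⟩
        rw [SetLike.mem_coe, mem_center_iff]
        intro a
        have h1 := mem_center_iff.mp hz ⟨g⁻¹ * a * g⁻¹⁻¹, h.normA (H.inv_mem hg) a.2⟩
        have h2 := congrArg Subtype.val h1
        simp only [Subgroup.coe_mul, inv_inv] at h2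
        apply Subtype.ext
        change (a : X) * (g * z * g⁻¹) = g * z * g⁻¹ * a
        calc (a : X) * (g * z * g⁻¹) = g * (g⁻¹ * a * g * z) * g⁻¹ := by group
          _ = g * (z * (g⁻¹ * a * g)) * g⁻¹ := by rw [h2]
          _ = g * z * g⁻¹ * a := by group) with h1 | h1
      · exfalso
        rw [Subgroup.map_eq_bot_iff_of_injective _ A.subtype_injective] at h1
        exact (hp.bot_lt_center).ne' h1
      · exact h1
    intro a ha b hb
    rw [← hZ] at ha
    obtain ⟨z, hz, rfl⟩ := ha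
    have := mem_center_iff.mp hz ⟨b, hb⟩
    exact (congrArg Subtype.val this).symm
  refine ⟨hc, ?_⟩
  let E : Subgroup X :=
    { carrier := {a | a ∈ A ∧ a * a = 1}
      one_mem' := ⟨A.one_mem, one_mul 1⟩
      mul_mem' := by
        rintro a b ⟨ha, ha2⟩ ⟨hb, hb2⟩
        refine ⟨A.mul_mem ha hb, ?_⟩
        calc a * b * (a * b) = a * (b * a) * b := by group
          _ = a * (a * b) * b := by rw [hc a ha b hb]
          _ = (a * a) * (b * b) := by group
          _ = 1 := by rw [ha2, hb2, one_mul]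
      inv_mem' := by
        rintro a ⟨ha, ha2⟩
        refine ⟨A.inv_mem ha, ?_⟩
        rw [← mul_inv_rev, ha2, inv_one] }
  have hE : E = A := by
    rcases h.min E (fun a ha => ha.1) (by
      rintro g hg a ⟨ha, ha2⟩
      refine ⟨h.normA hg ha, ?_⟩
      calc g * a * g⁻¹ * (g * a * g⁻¹) = g * (a * a) * g⁻¹ := by group
        _ = 1 := by rw [ha2]; group) with h1 | h1
    · exfalso
      have h2 : 2 ∣ Nat.card A := by rw [h.cA]; norm_num
      obtain ⟨a, ha⟩ := exists_prime_orderOf_dvd_card' (G := A) 2 h2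
      have h3 : (a : X) ∈ E := ⟨a.2, by
        have := pow_orderOf_eq_one a
        rw [ha, pow_two] at this
        exact congrArg Subtype.val this⟩
      rw [h1, mem_bot] at h3
      have h4 : a = 1 := Subtype.ext h3
      rw [h4, orderOf_one] at ha
      norm_num at ha
    · exact h1
  intro a ha
  rw [← hE] at ha
  exact ha.2

/-- `K₀` does not centralize `A` -/
theorem not_cent (h : Hyp A H K K₀) (hc : ∀ k ∈ K₀, ∀ a ∈ A, k * a = a * k) : False := by
  obtain ⟨hAc, hA2⟩ := h.A_comm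
  obtain ⟨k₁, hk₁, hk2, hk⟩ := h.coset
  have h2 : 2 ∣ Nat.card A := by rw [h.cA]; norm_num
  have : Fact (Nat.Prime 2) := ⟨Nat.prime_two⟩
  obtain ⟨a, ha⟩ := exists_prime_orderOf_dvd_card' (G := A) 2 h2
  set b : X := k₁ * a * k₁⁻¹ with hb
  have hbA : b ∈ A := h.normA (h.le hk₁) a.2
  -- the subgroup {1, a, b, ab}
  let B : Subgroup X :=
    { carrier := {x | x = 1 ∨ x = a ∨ x = b ∨ x = a * b}
      one_mem' := Or.inl rfl
      mul_mem' := by
        have haa := hA2 a a.2
        have hbb := hA2 b hbA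
        have hab := hAc a a.2 b hbA
        rintro x y (rfl | rfl | rfl | rfl) (rfl | rfl | rfl | rfl)
        · left; simp
        · right; left; simp
        · right; right; left; simp
        · right; right; right; simp
        · right; left; simp
        · left; exact haa
        · right; right; right; rfl
        · right; right; left; rw [← mul_assoc, haa, one_mul]
        · right; right; left; simp
        · right; right; right; rw [hab]
        · left; exact hbb
        · right; left; rw [hab, ← mul_assoc, hbb, one_mul]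
        · right; right; right; simp
        · right; right; left; rw [hab, mul_assoc, haa, mul_one]
        · right; left; rw [mul_assoc, hbb, mul_one]
        · left
          calc (a : X) * b * (a * b) = a * (b * a) * b := by group
            _ = a * (a * b) * b := by rw [hab]
            _ = (a * a) * (b * b) := by group
            _ = 1 := by rw [haa, hbb, one_mul]
      inv_mem' := by
        have haa := hA2 a a.2
        have hbb := hA2 b hbA
        have hab := hAc a a.2 b hbA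
        have ia : (a : X)⁻¹ = a := inv_eq_of_mul_eq_one_left haa
        have ib : b⁻¹ = b := inv_eq_of_mul_eq_one_left hbb
        rintro x (rfl | rfl | rfl | rfl)
        · left; simp
        · right; left; exact ia
        · right; right; left; exact ib
        · right; right; right; rw [mul_inv_rev, ia, ib, hab] }
  have hBA : B ≤ A := by
    rintro x (rfl | rfl | rfl | rfl)
    · exact A.one_mem
    · exact a.2
    · exact hbA
    · exact A.mul_mem a.2 hbA
  have h0a : ∀ k ∈ K₀, k * a * k⁻¹ = a := fun k hk => by rw [hc k hk a a.2, mul_inv_cancel_right]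
  have h0b : ∀ k ∈ K₀, k * b * k⁻¹ = b := fun k hk => by rw [hc k hk b hbA, mul_inv_cancel_right]
  have h1a : k₁ * a * k₁⁻¹ = b := rfl
  have h1b : k₁ * b * k₁⁻¹ = a := by
    have := h0a _ hk2
    rw [hb]
    calc k₁ * (k₁ * a * k₁⁻¹) * k₁⁻¹ = k₁ * k₁ * a * (k₁ * k₁)⁻¹ := by group
      _ = a := this
  have hK : ∀ k ∈ K, ∀ x ∈ B, k * x * k⁻¹ ∈ B := by
    have g0 : ∀ k ∈ K₀, ∀ x ∈ B, k * x * k⁻¹ = x := by
      intro k hk x hx
      have := hc k hk x (hBA hx)
      rw [this, mul_inv_cancel_right]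
    have g1 : ∀ x ∈ B, k₁ * x * k₁⁻¹ ∈ B := by
      rintro x (rfl | rfl | rfl | rfl)
      · left; simp
      · right; right; left; rfl
      · right; left; exact h1b
      · right; right; right
        calc k₁ * (a * b) * k₁⁻¹ = (k₁ * a * k₁⁻¹) * (k₁ * b * k₁⁻¹) := by group
          _ = b * a := by rw [h1a, h1b]
          _ = a * b := (hAc a a.2 b hbA).symm
    intro k hkK x hx
    rcases hk k hkK with h3 | h3
    · rw [g0 k h3 x hx]; exact hx
    · have h4 := g0 _ h3 x hx
      have h5 : k * x * k⁻¹ = k₁ * (k₁⁻¹ * k * x * (k₁⁻¹ * k)⁻¹) * k₁⁻¹ := by group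
      rw [h5, h4]
      exact g1 x hx
  have hH : ∀ g ∈ H, ∀ x ∈ B, g * x * g⁻¹ ∈ B := by
    intro g hg x hx
    rw [← h.sup] at hg
    obtain ⟨c, hc, k, hk, rfl⟩ := mem_sup_of_norm (A := A) (B := K) (fun b hb a ha => h.normA (h.le hb) ha) hg
    have h3 := hK k hk x hx
    have h4 : c * k * x * (c * k)⁻¹ = c * (k * x * k⁻¹) * c⁻¹ := by group
    rw [h4, hAc c hc _ (hBA h3), mul_inv_cancel_right]
    exact h3
  rcases h.min B hBA hH with h3 | h3
  · have h4 : (a : X) ∈ B := Or.inr (Or.inl rfl)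
    rw [h3, mem_bot] at h4
    have h5 : a = 1 := Subtype.ext h4
    rw [h5, orderOf_one] at ha
    norm_num at ha
  · have h4 : Nat.card A ≤ 4 := by
      rw [← h3]
      have h5 : (B : Set X) = {1, (a : X), b, a * b} := by
        ext x; rfl
      have h6 : Nat.card B = (B : Set X).ncard := rfl
      rw [h6, h5]
      have n1 := Set.ncard_insert_le (1 : X) {(a : X), b, a * b}
      have n2 := Set.ncard_insert_le (a : X) {b, (a : X) * b}
      have n3 := Set.ncard_insert_le b {(a : X) * b}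
      rw [Set.ncard_singleton] at n3
      omega
    rw [h.cA] at h4
    norm_num at h4

/-- **the contradiction** -/
theorem false (T : OrdDiv.OrderTable.{u}) (hS : ∀ (L : Type u) [Group L] [Finite L] [IsSimpleGroup L], IsKnownSimple' L)
    (h : Hyp A H K K₀) : False := by
  have htop : (⊤ : Subgroup X) ≠ ⊥ := by
    intro h0
    apply h.ne
    rw [eq_top_iff, h0]
    exact bot_le
  obtain ⟨L, -, hL⟩ := exists_minNormal (inferInstance : (⊤ : Subgroup X).Normal) htop
  have hLs := h.simple_of_min hL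
  have hLn := hL.normal
  have hL3 : 3 ∣ Nat.card L := by
    by_contra h3
    exact hL.ne (h.normal_three hLn h3)
  -- `L ∩ H`
  have hMn : ∀ g ∈ H, ∀ m ∈ L ⊓ H, g * m * g⁻¹ ∈ L ⊓ H := fun g hg m hm =>
    ⟨hLn.conj_mem m hm.1 g, H.mul_mem (H.mul_mem hg hm.2) (H.inv_mem hg)⟩
  have hK0M : K₀ ≤ (L ⊓ H) ⊔ A := by
    rcases h.le_or inf_le_right hMn with h1 | h1
    · exfalso
      obtain ⟨y, hy, ho⟩ := exists_three hL3
      obtain ⟨g, hg⟩ := h.exists_conj ho
      have h2 : g * y * g⁻¹ ∈ A := h1 ⟨hLn.conj_mem y hy g, hg⟩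
      have h3 := (h.A_comm).2 _ h2
      have h4 : orderOf (g * y * g⁻¹) ∣ 2 := orderOf_dvd_of_pow_eq_one (by rw [pow_two]; exact h3)
      rw [← MulAut.conj_apply, MulEquiv.orderOf_eq, ho] at h4
      norm_num at h4
    · exact h1
  have hAL : A ≤ L := by
    rcases h.min (L ⊓ A) inf_le_right (fun g hg b hb =>
      ⟨hLn.conj_mem b hb.1 g, h.normA hg hb.2⟩) with h1 | h1
    · exfalso
      apply h.not_cent
      intro k hk a ha
      have hk' := hK0M hk
      rw [sup_comm] at hk'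
      obtain ⟨c, hc, m, hm, rfl⟩ := mem_sup_of_norm (A := A) (B := L ⊓ H)
        (fun b hb a ha => h.normA hb.2 ha) hk'
      have h2 : m * a * m⁻¹ * a⁻¹ ∈ L ⊓ A := by
        constructor
        · rw [mul_assoc, mul_assoc]
          refine L.mul_mem hm.1 ?_
          rw [← mul_assoc]
          exact hLn.conj_mem _ (L.inv_mem hm.1) a
        · exact A.mul_mem (h.normA hm.2 ha) (A.inv_mem ha)
      rw [h1, mem_bot] at h2
      have h3 : m * a = a * m := mul_inv_eq_iff_eq_mul.mp (mul_inv_eq_one.mp h2)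
      rw [mul_assoc, h3, ← mul_assoc, (h.A_comm).1 c hc a ha, mul_assoc]
    · rw [← h1]; exact inf_le_left
  have hK0L : K₀ ≤ L := by
    intro k hk
    have h1 := hK0M hk
    have h2 : (L ⊓ H) ⊔ A ≤ L := sup_le inf_le_left hAL
    exact h2 h1
  -- the order
  have hcard : 2 ^ 20 * 9196830720 ∣ Nat.card L := by
    have h1 := card_sup (A := A) (B := K₀) (fun b hb a ha => h.normA (h.le (h.le0 hb)) ha)
    have h2 : A ⊓ K₀ = ⊥ := by
      rw [eq_bot_iff, ← h.inf]
      exact inf_le_inf_left A h.le0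
    rw [h2, h.cA, h.c0, Subgroup.card_bot, mul_one] at h1
    rw [← h1]
    exact Subgroup.card_dvd_of_le (sup_le hAL hK0L)
  have hC6 : C6 L := by
    refine ⟨?_, ?_, ?_⟩
    · exact (by norm_num : 3 ^ 6 ∣ 2 ^ 20 * 9196830720).trans hcard
    · intro h7
      exact h.not_dvd (h7.trans (Subgroup.card_subgroup_dvd_card L))
    · intro y hy
      have h1 : orderOf (y : X) = 3 := by rw [Subgroup.orderOf_coe]; exact hy
      refine Dvd.dvd.trans ?_ (h.card_cent h1)
      exact card_dvd_centralizer (L.subtype.comp (centralizer ({y} : Set L)).subtype)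
        (L.subtype_injective.comp (Subgroup.subtype_injective _)) _ (fun b => by
          have := mem_centralizer_singleton_iff.mp b.2
          exact (congrArg Subtype.val this).symm)
  refine elim338 T (hS L) hC6 ((by norm_num : 2 ^ 35 * 5 * 7 * 11 ∣ 2 ^ 20 * 9196830720).trans hcard) ?_
  intro hr
  have h1 := hr (A.subgroupOf L) ⟨⟨fun a b => Subtype.ext (Subtype.ext ((h.A_comm).1 _ a.2 _ b.2))⟩⟩ (by
    intro a ha
    rw [pow_two]
    exact Subtype.ext ((h.A_comm).2 _ ha))
  rw [Nat.card_congr (Subgroup.subgroupOfEquivOfLe hAL).toEquiv, h.cA] at h1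
  norm_num at h1

end Hyp

end Cfsg.Agent.H343.R338
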